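import Cfsg.Agent.R01.LiftsLoc2
import Cfsg.Agent.R01.FiMain
import Cfsg.Agent.R08.AutT
set_option linter.all false

/-!
The two classes of lifts of the 3-transpositions of `Fi22` to a perfect double cover.
-/

set_option autoImplicit false

namespace Cfsg.Agent.R08.LiftCls

open Cfsg Cfsg.Agent.Fischer Cfsg.Agent.R01 Cfsg.Agent.R01.Lifts Cfsg.Agent.R01.FiFusion
  Cfsg.Agent.R01.FiFacts
  Cfsg.Agent.R01.FiHexad Cfsg.Agent.R01.FiMain
open Cfsg.Agent.R08.AutT (T tFacts hfix aut_mem)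
open scoped commutatorElement

variable {C : Type*} [Group C] {π : C →* Spor.Fi22} {z : C} {D : Set C}

/-- A class of lifts of the transpositions of `Fi22` to the perfect double cover `C`. -/
structure Cls (π : C →* Spor.Fi22) (z : C) (D : Set C) : Prop where
  ext : Ext π z
  perf : commutator C = ⊤
  cls : IsThreeTranspositionClass D
  bij : Set.BijOn π D T
  cover : ∀ c, π c ∈ T → c ∈ D ∨ c * z ∈ D
  nz : ∀ c ∈ D, c * z ∉ D
  comm : ∀ a b, π a ∈ T → π b ∈ T → Commute (π a) (π b) → Commute a b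
  ord : ∀ a, π a ∈ T → orderOf a = 2
  comm' : ∀ a g, π a ∈ T → Commute (π g) (π a) → Commute g a

theorem exists_cls (h : Ext π z) (hperf : commutator C = ⊤) : ∃ D : Set C, Cls π z D := by
  obtain ⟨D, h1, h2, h3, h4, h5, h6, h7⟩ := LiftsLoc2.lifts h hperf
    Fi22Facts.isThreeTranspositionClass_T Fi22Facts.loc
  exact ⟨D, h, hperf, h1, h2, h3, h4, h5, h6, h7⟩

theorem Cls.lifted (h : Cls π z D) : Lifted π z T D := lifted_of h.ext h.cls h.bij h.nz h.comm

theorem map_mul_z (h : Ext π z) (c : C) : π (c * z) = π c := by rw [map_mul, h.mapz, mul_one]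

/-- A subgroup which maps onto the quotient is everything. -/
theorem eq_top_of_map (h : Ext π z) (hperf : commutator C = ⊤) {H : Subgroup C}
    (hH : ∀ x : Spor.Fi22, ∃ y ∈ H, π y = x) : H = ⊤ := by
  have h1 : ∀ c : C, c ∈ H ∨ c * z ∈ H := by
    intro c
    obtain ⟨y, hy, hyc⟩ := hH (π c)
    rcases h.map_eq.1 hyc with h2 | h2
    · left; rwa [← h2]
    · right; rwa [← h2]
  rw [eq_top_iff, ← hperf, commutator_def, Subgroup.commutator_le]
  intro a _ b _
  have hz : ∀ c : C, z * c = c * z := fun c => (h.comm c).symm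
  have key : ∀ a b : C, ⁅a * z, b⁆ = ⁅a, b⁆ ∧ ⁅a, b * z⁆ = ⁅a, b⁆ := by
    intro a b
    have hi : z * z⁻¹ = 1 := mul_inv_cancel z
    constructor
    · calc ⁅a * z, b⁆ = a * (z * b) * z⁻¹ * a⁻¹ * b⁻¹ := by rw [commutatorElement_def]; group
        _ = a * b * (z * z⁻¹) * a⁻¹ * b⁻¹ := by rw [hz]; group
        _ = ⁅a, b⁆ := by rw [hi, mul_one, commutatorElement_def]
    · calc ⁅a, b * z⁆ = a * b * (z * a⁻¹) * z⁻¹ * b⁻¹ := by rw [commutatorElement_def]; group
        _ = a * b * a⁻¹ * (z * z⁻¹) * b⁻¹ := by rw [hz]; group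
        _ = ⁅a, b⁆ := by rw [hi, mul_one, commutatorElement_def]
  have hm : ∀ a ∈ H, ∀ b ∈ H, ⁅a, b⁆ ∈ H := fun a ha b hb => by
    rw [commutatorElement_def]
    exact H.mul_mem (H.mul_mem (H.mul_mem ha hb) (H.inv_mem ha)) (H.inv_mem hb)
  rcases h1 a with ha | ha <;> rcases h1 b with hb | hb
  · exact hm a ha b hb
  · rw [← (key a b).2]; exact hm a ha _ hb
  · rw [← (key a b).1]; exact hm _ ha b hb
  · rw [← (key a b).1, ← (key (a * z) b).2]; exact hm _ ha _ hb

theorem mem_closure_T (x : Spor.Fi22) : x ∈ Subgroup.closure T := by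
  have := Fi22Facts.isThreeTranspositionClass_T.2.2
  show x ∈ Subgroup.closure Fi22Facts.T
  rw [this]; trivial

theorem mul_z_mul_z' (h : Ext π z) (a b : C) : a * z * (b * z) = a * b := by
  calc a * z * (b * z) = a * (z * b) * z := by group
    _ = a * (b * z) * z := by rw [h.comm b]
    _ = a * b * (z * z) := by group
    _ = a * b := by rw [h.zz, mul_one]

theorem conj_mul_z (h : Ext π z) (c a : C) : c * (a * z) * c⁻¹ = c * a * c⁻¹ * z := by
  calc c * (a * z) * c⁻¹ = c * a * (z * c⁻¹) := by group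
    _ = c * a * (c⁻¹ * z) := by rw [h.comm c⁻¹]
    _ = c * a * c⁻¹ * z := by group

/-- The other class. -/
theorem Cls.twist (h : Cls π z D) : Cls π z {c | c * z ∈ D} := by
  have e := h.ext
  have hzz : ∀ a : C, a * z * z = a := e.mul_z_mul_z
  obtain ⟨⟨hord, hprod⟩, ⟨t, ht, hconj⟩, hgen⟩ := h.cls
  have hcl : IsThreeTranspositionClass {c | c * z ∈ D} := by
    refine ⟨⟨?_, ?_⟩, ⟨t * z, ?_, ?_⟩, ?_⟩
    · intro x hx
      have h1 : π (x * z) ∈ T := h.bij.1 hx
      rw [map_mul_z e] at h1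
      exact h.ord x h1
    · intro x hx y hy
      have := hprod _ hx _ hy
      rwa [mul_z_mul_z' e] at this
    · show t * z * z ∈ D
      rw [hzz]; exact ht
    · ext x
      show x * z ∈ D ↔ IsConj (t * z) x
      rw [hconj]
      show IsConj t (x * z) ↔ _
      rw [isConj_iff, isConj_iff]
      constructor
      · rintro ⟨c, hc⟩
        exact ⟨c, by rw [conj_mul_z e, hc, hzz]⟩
      · rintro ⟨c, hc⟩
        exact ⟨c, by rw [← hc, conj_mul_z e, hzz]⟩
    · apply eq_top_of_map e h.perf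
      intro x
      refine Subgroup.closure_induction (p := fun x _ => ∃ y ∈ Subgroup.closure {c | c * z ∈ D},
        π y = x) ?_ ?_ ?_ ?_ (mem_closure_T x)
      · intro x hx
        obtain ⟨d, hd, rfl⟩ := h.bij.2.2 hx
        refine ⟨d * z, Subgroup.subset_closure ?_, map_mul_z e d⟩
        show d * z * z ∈ D
        rw [hzz]; exact hd
      · exact ⟨1, Subgroup.one_mem _, map_one π⟩
      · rintro x y _ _ ⟨a, ha, rfl⟩ ⟨b, hb, rfl⟩
        exact ⟨a * b, Subgroup.mul_mem _ ha hb, map_mul π a b⟩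
      · rintro x _ ⟨a, ha, rfl⟩
        exact ⟨a⁻¹, Subgroup.inv_mem _ ha, map_inv π a⟩
  refine ⟨e, h.perf, hcl, ⟨?_, ?_, ?_⟩, ?_, ?_, h.comm, h.ord, h.comm'⟩
  · intro x hx
    have h1 : π (x * z) ∈ T := h.bij.1 hx
    rwa [map_mul_z e] at h1
  · intro x hx y hy hxy
    exact mul_right_cancel (h.bij.2.1 hx hy (by rw [map_mul_z e, map_mul_z e, hxy]))
  · intro x hx
    obtain ⟨d, hd, rfl⟩ := h.bij.2.2 hx
    refine ⟨d * z, ?_, map_mul_z e d⟩
    show d * z * z ∈ D
    rw [hzz]; exact hd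
  · intro c hc
    rcases h.cover c hc with h1 | h1
    · right
      show c * z * z ∈ D
      rw [hzz]; exact h1
    · left; exact h1
  · intro c hc hcz
    have h1 : c * z * z ∈ D := hcz
    exact h.nz _ h1 (by rw [hzz]; exact hc)

/-- Every lift of a transposition lies in a class of lifts. -/
theorem exists_cls_mem (h : Ext π z) (hperf : commutator C = ⊤) {r : C} (hr : π r ∈ T) :
    ∃ D : Set C, Cls π z D ∧ r ∈ D := by
  obtain ⟨D, hD⟩ := exists_cls h hperf
  rcases hD.cover r hr with h1 | h1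
  · exact ⟨D, hD, h1⟩
  · exact ⟨_, hD.twist, h1⟩

theorem Cls.mem_iff (h : Cls π z D) {c : C} (hc : c ∈ D) : π c ∈ T := h.bij.1 hc

theorem Cls.conj (h : Cls π z D) (c : C) {x : C} (hx : x ∈ D) : c * x * c⁻¹ ∈ D :=
  h.lifted.conj c x hx

theorem Cls.trans (h : Cls π z D) {x y : C} (hx : x ∈ D) (hy : y ∈ D) :
    ∃ c : C, c * x * c⁻¹ = y := by
  obtain ⟨g, hg⟩ := tFacts.trans _ (h.bij.1 hx) _ (h.bij.1 hy)
  obtain ⟨c, rfl⟩ := h.ext.surj g
  exact ⟨c, conj_eq h.lifted hx hy hg⟩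

/-- The element `z` is not a square. -/
theorem Cls.hns (h : Cls π z D) (c : C) : c * c ≠ z := by
  have L := h.lifted
  intro hc
  obtain ⟨c₀, h0, hcc⟩ := lkey L tFacts hfix c (Or.inr hc)
  have hsq : ∀ b, c = c₀ * b → b * b = 1 → False := by
    intro b hb hbb
    have hcb : c₀ * b = b * c₀ := by
      rcases h0 with rfl | rfl
      · group
      · exact (L.ext.comm b).symm
    have h00 : c₀ * c₀ = 1 := by
      rcases h0 with rfl | rfl
      · group
      · exact L.ext.zz
    apply L.ext.zne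
    rw [← hc, hb]
    calc c₀ * b * (c₀ * b) = c₀ * (b * c₀) * b := by group
      _ = c₀ * (c₀ * b) * b := by rw [hcb]
      _ = (c₀ * c₀) * (b * b) := by group
      _ = 1 := by rw [h00, hbb, one_mul]
  rcases hcc with hcc | ⟨x, hx, hcc⟩ | ⟨x, hx, y, hy, -, hxy, hcc⟩ | ⟨x, y, w, ht, hcc⟩
  · exact hsq 1 (by rw [mul_one, hcc]) (one_mul 1)
  · exact hsq x hcc (L.sq x hx)
  · refine hsq (x * y) hcc ?_
    calc x * y * (x * y) = x * (y * x) * y := by group
      _ = x * (x * y) * y := by rw [hxy]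
      _ = (x * x) * (y * y) := by group
      _ = 1 := by rw [L.sq x hx, L.sq y hy, one_mul]
  · exact hsq (x * y * w) hcc (prod3_sq (L.sq x ht.mx) (L.sq y ht.my) (L.sq w ht.mw) ht.cxy
      ht.cxw ht.cyw)

/-- The product of the members of a hexad is `z`. -/
theorem Cls.sign (h : Cls π z D) : ∀ a ∈ D, ∀ b ∈ D, ∀ c ∈ D, ∀ a' ∈ D, ∀ b' ∈ D, ∀ c' ∈ D,
    Hex T (π a) (π b) (π c) (π a') (π b') (π c') → a * b * c * (a' * b' * c') = z :=
  fun _ ha _ hb _ hc _ ha' _ hb' _ hc' hH =>
    h.lifted.hexad_sign tFacts h.perf h.hns Fi22Facts.gen_mem ha hb hc ha' hb' hc' hH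

/-- The automorphism of `Fi22` induced by an automorphism of the double cover. -/
theorem exists_induced (h : Ext π z) (α : C ≃* C) (hα : α z = z) :
    ∃ β : Spor.Fi22 ≃* Spor.Fi22, ∀ c, β (π c) = π (α c) := by
  have hker : ∀ c, π c = 1 ↔ π (α c) = 1 := by
    intro c
    rw [h.ker, h.ker, ← α.injective.eq_iff (a := c) (b := 1),
      ← α.injective.eq_iff (a := c) (b := z), hα, map_one]
  have key : ∀ (α : C ≃* C), (∀ c, π c = 1 ↔ π (α c) = 1) → ∀ a b, π a = π b →
      π (α a) = π (α b) := by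
    intro α hα a b hab
    have h1 : π (b⁻¹ * a) = 1 := by rw [map_mul, map_inv, hab, inv_mul_cancel]
    rw [hα, map_mul, map_mul, map_inv, map_inv] at h1
    exact (inv_mul_eq_one.1 h1).symm
  have hker' : ∀ c, π c = 1 ↔ π (α.symm c) = 1 := by
    intro c
    rw [hker (α.symm c), α.apply_symm_apply]
  choose σ hσ using h.surj
  refine ⟨{ toFun := fun x => π (α (σ x)), invFun := fun x => π (α.symm (σ x)),
            left_inv := ?_, right_inv := ?_, map_mul' := ?_ }, ?_⟩
  · intro x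
    show π (α.symm (σ (π (α (σ x))))) = x
    rw [key α.symm hker' _ (α (σ x)) (hσ _), α.symm_apply_apply, hσ]
  · intro x
    show π (α (σ (π (α.symm (σ x))))) = x
    rw [key α hker _ (α.symm (σ x)) (hσ _), α.apply_symm_apply, hσ]
  · intro x y
    show π (α (σ (x * y))) = π (α (σ x)) * π (α (σ y))
    rw [← map_mul, ← map_mul]
    exact key α hker _ _ (by rw [hσ, map_mul, hσ, hσ])
  · intro c
    exact key α hker _ _ (hσ _)

/-- An automorphism fixing `z` preserves the set of lifts. -/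
theorem aut_mem_T (h : Ext π z) (α : C ≃* C) (hα : α z = z) {c : C} (hc : π c ∈ T) :
    π (α c) ∈ T := by
  obtain ⟨β, hβ⟩ := exists_induced h α hα
  rw [← hβ]
  exact aut_mem β hc

/-- An automorphism fixing `z` fixes or interchanges the two classes. -/
theorem Cls.aut_cases (h : Cls π z D) (α : C ≃* C) (hα : α z = z) :
    (∀ d ∈ D, α d ∈ D) ∨ (∀ d ∈ D, α d * z ∈ D) := by
  obtain ⟨-, ⟨t, ht, -⟩, -⟩ := h.cls
  have h1 : π (α t) ∈ T := aut_mem_T h.ext α hα (h.bij.1 ht)
  rcases h.cover _ h1 with h2 | h2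
  · left
    intro d hd
    obtain ⟨c, rfl⟩ := h.trans ht hd
    rw [map_mul, map_mul, map_inv]
    exact h.conj _ h2
  · right
    intro d hd
    obtain ⟨c, rfl⟩ := h.trans ht hd
    rw [map_mul, map_mul, map_inv, ← conj_mul_z h.ext]
    exact h.conj _ h2

/-- The automorphism fixes `z` automatically. -/
theorem aut_z (h : Ext π z) (α : C ≃* C) : α z = z := by
  -- the centre of `Fi22` is trivial
  have hcen : ∀ x : Spor.Fi22, (∀ y, x * y = y * x) → x = 1 := by
    intro x hx
    have hs := Fi22Facts.isSimple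
    rcases Subgroup.Normal.eq_bot_or_eq_top
      (inferInstance : (Subgroup.center Spor.Fi22).Normal) with h1 | h1
    · have : x ∈ Subgroup.center Spor.Fi22 := Subgroup.mem_center_iff.2 fun y => (hx y).symm
      rwa [h1, Subgroup.mem_bot] at this
    · exfalso
      apply Fi22Order.ab_ne
      have h2 : Fi22PtsRep.gen .b ∈ Subgroup.center Spor.Fi22 := by rw [h1]; trivial
      exact Subgroup.mem_center_iff.1 h2 _
  have h1 : π (α z) = 1 := by
    apply hcen
    intro y
    obtain ⟨c, rfl⟩ := h.surj y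
    obtain ⟨c, rfl⟩ := α.surjective c
    rw [← map_mul, ← map_mul, ← map_mul, ← map_mul, h.comm]
  rcases (h.ker _).1 h1 with h2 | h2
  · exfalso
    exact h.zne (α.injective (by rw [h2, map_one]))
  · exact h2

end Cfsg.Agent.R08.LiftCls
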