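import Mathlib
set_option linter.all false

/-!
# Tetrads of commuting 3-transpositions

`L` is a normal set of 3-transpositions of a group `F` without short relations.  A tetrad of `s` is a set of
four commuting members of `L` with product `s`.
-/

set_option autoImplicit false

namespace Cfsg.Agent.R08.TetBasic

variable {F : Type*} [Group F]

/-- A normal set of 3-transpositions in which no product of four or six commuting distinct members is `1`. -/
structure Tr (L : Set F) : Prop where
  sq : ∀ a ∈ L, a * a = 1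
  conj : ∀ g : F, ∀ a ∈ L, g * a * g⁻¹ ∈ L
  three : ∀ a ∈ L, ∀ b ∈ L, Commute a b ∨ a * b * a = b * a * b
  four : ∀ a ∈ L, ∀ b ∈ L, ∀ c ∈ L, ∀ d ∈ L, a ≠ b → a ≠ c → a ≠ d → b ≠ c → b ≠ d → c ≠ d →
    Commute a b → Commute a c → Commute a d → Commute b c → Commute b d → Commute c d →
    a * b ≠ c * d
  six : ∀ a ∈ L, ∀ b ∈ L, ∀ c ∈ L, ∀ d ∈ L, ∀ e ∈ L, ∀ f ∈ L,
    a ≠ b → a ≠ c → b ≠ c → d ≠ e → d ≠ f → e ≠ f →
    a ≠ d → a ≠ e → a ≠ f → b ≠ d → b ≠ e → b ≠ f → c ≠ d → c ≠ e → c ≠ f →
    Commute a b → Commute a c → Commute b c → Commute d e → Commute d f → Commute e f →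
    Commute a d → Commute a e → Commute a f → Commute b d → Commute b e → Commute b f →
    Commute c d → Commute c e → Commute c f →
    a * b * c ≠ d * e * f

variable {L : Set F}

namespace Tr

theorem inv (h : Tr L) {a : F} (ha : a ∈ L) : a⁻¹ = a := inv_eq_of_mul_eq_one_left (h.sq a ha)

theorem cj (h : Tr L) {a b : F} (ha : a ∈ L) (hb : b ∈ L) : a * b * a ∈ L := by
  have := h.conj a b hb
  rwa [h.inv ha] at this

theorem cancel (h : Tr L) {a : F} (ha : a ∈ L) (x : F) : a * (a * x) = x := by
  rw [← mul_assoc, h.sq a ha, one_mul]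

theorem cancel' (h : Tr L) {a : F} (ha : a ∈ L) (x : F) : x * a * a = x := by
  rw [mul_assoc, h.sq a ha, mul_one]

theorem braid (h : Tr L) {a b : F} (ha : a ∈ L) (hb : b ∈ L) (hn : ¬ Commute a b) :
    a * b * a = b * a * b := (h.three a ha b hb).resolve_left hn

end Tr

/-- `e f = f e`, `g` does not commute with `e`, `f`: then `g` commutes with `g^(ef)`. -/
theorem comm_cj2 (h : Tr L) {e f g : F} (he : e ∈ L) (hf : f ∈ L) (hg : g ∈ L) (hef : Commute e f)
    (h1 : ¬ Commute e g) (h2 : ¬ Commute f g) : Commute (e * (f * g * f) * e) g := by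
  have b1 := h.braid he hg h1
  have b2 := h.braid hf hg h2
  show e * (f * g * f) * e * g = g * (e * (f * g * f) * e)
  calc e * (f * g * f) * e * g = e * (g * f * g) * e * g := by rw [b2]
    _ = e * g * f * (g * e * g) := by group
    _ = e * g * f * (e * g * e) := by rw [b1]
    _ = e * g * (f * e) * g * e := by group
    _ = e * g * (e * f) * g * e := by rw [hef.eq]
    _ = (e * g * e) * f * g * e := by group
    _ = (g * e * g) * f * g * e := by rw [b1]
    _ = g * (e * (g * f * g) * e) := by group
    _ = g * (e * (f * g * f) * e) := by rw [b2]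

/-- A transposition commuting with the product of two commuting transpositions commutes with both. -/
theorem comm_of_comm_mul (h : Tr L) {e f g : F} (he : e ∈ L) (hf : f ∈ L) (hg : g ∈ L) (hef : Commute e f)
    (hne : e ≠ f) (hc : Commute g (e * f)) : Commute g e ∧ Commute g f := by
  have key : ∀ e f : F, e ∈ L → f ∈ L → Commute e f → Commute g (e * f) → Commute g e → Commute g f := by
    intro e f he hf hef hc h1
    have : Commute g (e * (e * f)) := h1.mul_right hc
    rwa [h.cancel he] at this
  by_cases h1 : Commute g e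
  · exact ⟨h1, key e f he hf hef hc h1⟩
  · exfalso
    have h2 : ¬ Commute g f := fun h2 => h1 (key f e hf he hef.symm (hef.eq ▸ hc) h2)
    have b1 := h.braid he hg (fun x => h1 x.symm)
    have b2 := h.braid hf hg (fun x => h2 x.symm)
    have e1 : g = e * (f * g * f) * e := by
      have : g * (e * f) = e * f * g := hc.eq
      calc g = g * (e * f) * (f * e) := by
            rw [show g * (e * f) * (f * e) = g * (e * (f * f) * e) by group, h.sq f hf, mul_one, h.sq e he,
              mul_one]
        _ = e * f * g * (f * e) := by rw [this]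
        _ = e * (f * g * f) * e := by group
    have e2 : e * g * e = f * g * f := by
      calc e * g * e = e * (e * (f * g * f) * e) * e := by rw [← e1]
        _ = (e * e) * (f * g * f) * (e * e) := by group
        _ = f * g * f := by rw [h.sq e he, one_mul, mul_one]
    rw [b1, b2] at e2
    have : g * e * g * g⁻¹ = g * f * g * g⁻¹ := by rw [e2]
    exact hne (by simpa using this)

/-- `b'` commutes with the product of three commuting transpositions: then it commutes with each. -/
theorem comm_of_comm_mul3 (h : Tr L) {b c d g : F} (hb : b ∈ L) (hc : c ∈ L) (hd : d ∈ L) (hg : g ∈ L)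
    (hbc : Commute b c) (hbd : Commute b d) (hcd : Commute c d) (nbc : b ≠ c) (nbd : b ≠ d) (ncd : c ≠ d)
    (hgc : Commute g (b * c * d)) : Commute g b ∧ Commute g c ∧ Commute g d := by
  have key : ∀ b c d : F, b ∈ L → c ∈ L → d ∈ L → Commute b c → Commute b d → Commute c d → c ≠ d →
      Commute g (b * c * d) → Commute g b → Commute g c ∧ Commute g d := by
    intro b c d hb hc hd hbc hbd hcd ncd hgc h1
    have h2 : Commute g (b * (b * c * d)) := h1.mul_right hgc
    have h3 : b * (b * c * d) = c * d := by rw [mul_assoc b c d, h.cancel hb]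
    rw [h3] at h2
    exact comm_of_comm_mul h hc hd hg hcd ncd h2
  have r1 : c * b * d = b * c * d := by rw [hbc.eq]
  have r2 : d * b * c = b * c * d := by rw [mul_assoc, (hbd.symm.mul_right hcd.symm).eq]
  by_cases h1 : Commute g b
  · exact ⟨h1, key b c d hb hc hd hbc hbd hcd ncd hgc h1⟩
  exfalso
  have h2 : ¬ Commute g c := fun h2 =>
    h1 (key c b d hc hb hd hbc.symm hcd hbd nbd (by rw [r1]; exact hgc) h2).1
  have h3 : ¬ Commute g d := fun h3 =>
    h1 (key d b c hd hb hc hbd.symm hcd.symm hbc nbc (by rw [r2]; exact hgc) h3).1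
  have b3 := h.braid hd hg (fun x => h3 x.symm)
  have c1 := comm_cj2 h hb hc hg hbc (fun x => h1 x.symm) (fun x => h2 x.symm)
  have e1 : b * (c * g * c) * b = d * g * d := by
    have e0 : g * (b * c * d) = b * c * d * g := hgc.eq
    have e3 : b * c * d = d * (b * c) := by rw [← mul_assoc]; exact r2.symm
    have e4 : b * c * d = c * b * d := r1.symm
    have e5 : g * (c * b * d) = d * (b * c) * g := by rw [← e4, e0, e3]
    calc b * (c * g * c) * b = (b * c) * (g * (c * b * d)) * d := by
          rw [show (b * c) * (g * (c * b * d)) * d = b * (c * g * c) * b * (d * d) by group, h.sq d hd, mul_one]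
      _ = (b * c) * (d * (b * c) * g) * d := by rw [e5]
      _ = (b * c * d) * (b * c) * g * d := by group
      _ = (d * (b * c)) * (b * c) * g * d := by rw [e3]
      _ = d * (b * (c * b) * c) * g * d := by group
      _ = d * (b * (b * c) * c) * g * d := by rw [hbc.eq]
      _ = d * ((b * b) * (c * c)) * g * d := by group
      _ = d * g * d := by rw [h.sq b hb, h.sq c hc]; simp
  rw [e1, b3] at c1
  apply h3
  have e6 : g * d * g * g = g * (g * d * g) := c1.eq
  have e7 : g * d * g * g = g * d := by rw [mul_assoc, h.sq g hg, mul_one]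
  have e8 : g * (g * d * g) = d * g := by
    rw [show g * (g * d * g) = (g * g) * (d * g) by group, h.sq g hg, one_mul]
  rw [e7, e8] at e6
  exact e6

/-- Uniqueness of the pair of factors of a product of two commuting transpositions. -/
theorem pair_unique (h : Tr L) {e f g k : F} (he : e ∈ L) (hf : f ∈ L) (hg : g ∈ L) (hk : k ∈ L)
    (hef : Commute e f) (hne : e ≠ f) (hgk : Commute g k) (heq : e * f = g * k) :
    (g = e ∧ k = f) ∨ (g = f ∧ k = e) := by
  have hngk : g ≠ k := by
    rintro rfl
    rw [h.sq g hg] at heq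
    exact hne (by
      have := congrArg (· * f) heq
      simpa [mul_assoc, h.sq f hf] using this)
  have c1 : Commute g (e * f) := by rw [heq]; exact (Commute.refl g).mul_right hgk
  have c2 : Commute k (e * f) := by rw [heq]; exact hgk.symm.mul_right (Commute.refl k)
  obtain ⟨c3, c4⟩ := comm_of_comm_mul h he hf hg hef hne c1
  obtain ⟨c5, c6⟩ := comm_of_comm_mul h he hf hk hef hne c2
  by_cases h1 : g = e
  · left; refine ⟨h1, ?_⟩
    subst h1
    exact (mul_left_cancel heq).symm
  by_cases h2 : g = f
  · right; refine ⟨h2, ?_⟩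
    subst h2
    rw [hef.eq] at heq
    exact (mul_left_cancel heq).symm
  by_cases h3 : k = e
  · exfalso; apply h2
    subst h3
    rw [hgk.eq] at heq
    exact (mul_left_cancel heq).symm
  by_cases h4 : k = f
  · exfalso; apply h1
    subst h4
    exact (mul_right_cancel heq).symm
  exact absurd heq (h.four e he f hf g hg k hk hne (Ne.symm h1) (Ne.symm h3) (Ne.symm h2) (Ne.symm h4) hngk hef
    c3.symm c5.symm c4.symm c6.symm hgk)

/-- Two equal products of three commuting transpositions have the same factors. -/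
theorem tri_mem (h : Tr L) {b c d e f g : F} (hb : b ∈ L) (hc : c ∈ L) (hd : d ∈ L) (he : e ∈ L)
    (hf : f ∈ L) (hg : g ∈ L)
    (hbc : Commute b c) (hbd : Commute b d) (hcd : Commute c d) (nbc : b ≠ c) (nbd : b ≠ d) (ncd : c ≠ d)
    (hef : Commute e f) (heg : Commute e g) (hfg : Commute f g) (nef : e ≠ f) (neg : e ≠ g) (nfg : f ≠ g)
    (heq : b * c * d = e * f * g) : e = b ∨ e = c ∨ e = d := by
  -- cross commuting
  have ce : Commute e (b * c * d) := by
    rw [heq]; exact ((Commute.refl e).mul_right hef).mul_right heg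
  have cf : Commute f (b * c * d) := by
    rw [heq]; exact (hef.symm.mul_right (Commute.refl f)).mul_right hfg
  have cg : Commute g (b * c * d) := by
    rw [heq]; exact (heg.symm.mul_right hfg.symm).mul_right (Commute.refl g)
  obtain ⟨e1, e2, e3⟩ := comm_of_comm_mul3 h hb hc hd he hbc hbd hcd nbc nbd ncd ce
  obtain ⟨f1, f2, f3⟩ := comm_of_comm_mul3 h hb hc hd hf hbc hbd hcd nbc nbd ncd cf
  obtain ⟨g1, g2, g3⟩ := comm_of_comm_mul3 h hb hc hd hg hbc hbd hcd nbc nbd ncd cg
  by_contra hcon
  push Not at hcon
  obtain ⟨n1, n2, n3⟩ := hcon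
  -- if `x * y = e * z` with everything commuting, `e ∉ {x, y}`, then contradiction
  have two : ∀ x y z : F, x ∈ L → y ∈ L → z ∈ L → x ≠ y → Commute x y → Commute e z → Commute e x →
      Commute e y → Commute z x → Commute z y → e ≠ z → e ≠ x → e ≠ y → x * y = e * z → False := by
    intro x y z hx hy hz nxy cxy cez cex cey czx czy nez nex ney hxy
    by_cases p1 : z = x
    · subst p1; rw [cez.eq] at hxy; exact ney (mul_left_cancel hxy).symm
    by_cases p2 : z = y
    · subst p2; exact nex (mul_right_cancel hxy).symm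
    exact h.four x hx y hy e he z hz nxy (Ne.symm nex) (Ne.symm p1) (Ne.symm ney) (Ne.symm p2) nez cxy
      cex.symm czx.symm cey.symm czy.symm cez hxy
  -- the case where `y` (one of `f`, `g`) is one of `b`, `c`, `d`
  have step : ∀ y z : F, y ∈ L → z ∈ L → Commute e y → Commute e z → Commute y z → e ≠ z →
      Commute z b → Commute z c → Commute z d → b * c * d = e * y * z → (y = b ∨ y = c ∨ y = d) → False := by
    intro y z hy hz cey cez cyz nez zb zc zd hyz hcase
    have hyz' : b * c * d = y * (e * z) := by rw [hyz, cey.eq, mul_assoc]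
    rcases hcase with rfl | rfl | rfl
    · rw [mul_assoc] at hyz'
      exact two c d z hc hd hz ncd hcd cez e2 e3 zc zd nez n2 n3 (mul_left_cancel hyz')
    · rw [hbc.eq, mul_assoc] at hyz'
      exact two b d z hb hd hz nbd hbd cez e1 e3 zb zd nez n1 n3 (mul_left_cancel hyz')
    · rw [← ((hbd.symm.mul_right hcd.symm).eq)] at hyz'
      exact two b c z hb hc hz nbc hbc cez e1 e2 zb zc nez n1 n2 (mul_left_cancel hyz')
  by_cases p1 : f = b ∨ f = c ∨ f = d
  · exact step f g hf hg hef heg hfg neg g1 g2 g3 heq p1
  by_cases p2 : g = b ∨ g = c ∨ g = d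
  · refine step g f hg hf heg hef hfg.symm nef f1 f2 f3 ?_ p2
    rw [heq, mul_assoc, hfg.eq, mul_assoc]
  push Not at p1 p2
  exact h.six b hb c hc d hd e he f hf g hg nbc nbd ncd nef neg nfg (Ne.symm n1) (Ne.symm p1.1) (Ne.symm p2.1)
    (Ne.symm n2) (Ne.symm p1.2.1) (Ne.symm p2.2.1) (Ne.symm n3) (Ne.symm p1.2.2) (Ne.symm p2.2.2)
    hbc hbd hcd hef heg hfg e1.symm f1.symm g1.symm e2.symm f2.symm g2.symm e3.symm f3.symm g3.symm heq

end Cfsg.Agent.R08.TetBasic
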