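import Cfsg.Agent.R08.X4Gamma_m3
import Cfsg.Agent.KFacts.FiTF.FixZ_m3
import Cfsg.Agent.R08.FlagData
import Cfsg.Agent.Fischer.Fi24Index_m3
import Cfsg.Agent.Fischer.TriLevL_mg_m3
import Cfsg.Agent.R08.TLabel3
import Cfsg.Agent.S0111
import Cfsg.Agent.S0283
import Cfsg.Prelude.Def_CaseTheorems
import Cfsg.Prelude.Def_Spor_Fi22
import Cfsg.Prelude.Def_Spor_Fi24
import Cfsg.Agent.FastGrp
import Cfsg.Agent.Prune
set_option linter.all false

section
prune_inst 0x7ffcfffbeff8bddeffff7e7fffffdffffffdfffffffffffbfffdffffffff7f6fffe5fbafffecdaffbff7e2bef1fa7b53fffffeffef6ffd7ffffdfff4dfffffdfffffbfad71dfbcbe1ffe7ffffbfb7fdfffffffffffffffffffffffffffffffffffffffffffff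

-- part: R08/X0Fin
section
prune_inst 0x200000000022100000180000000000000000000000000000000000000000000020010001004000000000004000000000001000000000000020000000000000000000000200000000000000000002000000000000000000000000000000000000000000000
set_option linter.all false
open scoped Cfsg.Agent.FastGrp

-- part: R08/X4Kappa
section
/-!
The braid relation between `τ` and `t'`.
-/

set_option autoImplicit false
set_option linter.constructorNameAsVariable false
set_option maxRecDepth 100000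

namespace Cfsg.Agent.R08.X4Kappa

open Cfsg Cfsg.Spor Cfsg.Agent.Fischer.Fi23Class Cfsg.Agent.Fischer.Fi23Cover
  Cfsg.Agent.Fischer.Fi23Z Cfsg.Agent.Fischer.Fi23Orb Cfsg.Agent.Fischer.Fi23Hom
  Cfsg.Agent.Fischer.Fi23Final
  Cfsg.Agent.R08.X4Rel Cfsg.Agent.R08.X4Pres Cfsg.Agent.R08.X4Tau

universe u

variable {G : Type u} [Group G] {θ : Fi23 →* G} {u : G} {τ : G} {γ : K ≃* K}

/-- Letters different from `h`, `j`, `z`. -/
def good : Lt → Bool
  | .h => false | .j => false | .z => false | _ => true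

theorem conj_mul {τ x y : G} : τ * (x * y) * τ⁻¹ = (τ * x * τ⁻¹) * (τ * y * τ⁻¹) := by group

theorem u_comm_ev (E : Emb θ u) {w : List Lt} (h : ∀ x ∈ w, x ≠ Lt.j) : θ (ev w) * u = u * θ (ev w) :=
  E.comm ⟨ev w, ev_mem_K h⟩

theorem tau_letter (E : Emb θ u)
    (hτs : ∀ s : Fi22.Gen, s ≠ .h → τ * θ (gen (emb s)) * τ⁻¹ = u * θ (gen (emb s)))
    (x : Lt) (hx : good x = true) : τ * θ x.el * τ⁻¹ = u * θ x.el := by
  cases x
  · exact hτs .a (by decide)
  · exact hτs .b (by decide)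
  · exact hτs .c (by decide)
  · exact hτs .d (by decide)
  · exact hτs .e (by decide)
  · exact hτs .f (by decide)
  · exact hτs .g (by decide)
  · exact absurd hx (by decide)
  · exact absurd hx (by decide)
  · exact hτs .i (by decide)
  · exact absurd hx (by decide)

theorem tau_word (E : Emb θ u)
    (hτs : ∀ s : Fi22.Gen, s ≠ .h → τ * θ (gen (emb s)) * τ⁻¹ = u * θ (gen (emb s)))
    (w : List Lt) (hw : ∀ x ∈ w, good x = true) :
    τ * θ (ev w) * τ⁻¹ = u ^ w.length * θ (ev w) := by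
  induction w with
  | nil => simp
  | cons x w ih =>
    have hx := hw x List.mem_cons_self
    have hw' : ∀ x ∈ w, good x = true := fun z hz => hw z (List.mem_cons_of_mem _ hz)
    have hxj : x ≠ Lt.j := by rintro rfl; exact absurd hx (by decide)
    have hc : θ x.el * u = u * θ x.el := by
      have := u_comm_ev E (w := [x]) (by simpa using hxj)
      rwa [ev_cons, ev_nil, mul_one] at this
    rw [ev_cons, map_mul, conj_mul, tau_letter E hτs x hx, ih hw', List.length_cons, pow_succ']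
    have hc' : θ x.el * u ^ w.length = u ^ w.length * θ x.el := (Commute.pow_right (hc : Commute _ _) _).eq
    calc u * θ x.el * (u ^ w.length * θ (ev w)) = u * (θ x.el * u ^ w.length) * θ (ev w) := by
          simp only [mul_assoc]
      _ = u * u ^ w.length * (θ x.el * θ (ev w)) := by rw [hc']; simp only [mul_assoc]

/-- The images of `t'`. -/
theorem t'_sq : ev t' * ev t' = 1 := by
  have hg : gen .g * z0 = z0 * gen .g := comm_z0 card_le _ (gen_mem_K .g (by decide))
  have h1 : ev t' = gen .j * (gen .g * z0) * gen .j := by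
    unfold t'
    simp only [ev_cons, ev_nil, mul_one, Lt.el, mul_assoc]
  have hj := gen_sq .j
  have hg2 := gen_sq .g
  have hz := z0_sq card_le
  rw [h1]
  calc gen .j * (gen .g * z0) * gen .j * (gen .j * (gen .g * z0) * gen .j)
      = gen .j * (gen .g * z0) * (gen .j * gen .j) * (gen .g * z0) * gen .j := by simp only [mul_assoc]
    _ = gen .j * (gen .g * (z0 * gen .g) * z0) * gen .j := by rw [hj, mul_one]; simp only [mul_assoc]
    _ = gen .j * ((gen .g * gen .g) * (z0 * z0)) * gen .j := by rw [← hg]; simp only [mul_assoc]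
    _ = 1 := by rw [hg2, hz, mul_one, mul_one, hj]

theorem t'_comm (s : Fi22.Gen) (hs : s ≠ .f) (hs' : s ≠ .g) :
    ev t' * gen (emb s) = gen (emb s) * ev t' := by
  have hj : gen .j * gen (emb s) = gen (emb s) * gen .j := by
    apply gen_comm
    cases s <;> first | decide | exact absurd rfl hs | exact absurd rfl hs'
  have hg : gen .g * gen (emb s) = gen (emb s) * gen .g := by
    apply gen_comm
    cases s <;> first | decide | exact absurd rfl hs | exact absurd rfl hs'
  have hz : z0 * gen (emb s) = gen (emb s) * z0 :=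
    (comm_z0 card_le _ (gen_mem_K _ (emb_ne_j s))).symm
  have h1 : ev t' = gen .j * gen .g * z0 * gen .j := by
    unfold t'
    simp only [ev_cons, ev_nil, mul_one, Lt.el, mul_assoc]
  rw [h1]
  have c1 : Commute (gen .j) (gen (emb s)) := hj
  have c2 : Commute (gen .g) (gen (emb s)) := hg
  have c3 : Commute z0 (gen (emb s)) := hz
  exact (((c1.mul_left c2).mul_left c3).mul_left c1).eq

theorem t'_z : ev t' * z0 * ev t' = gen .g := by
  have h := ev_eq' ck_tz
  rw [ev_append, ev_cons, ev_cons, ev_nil, mul_one, ← mul_assoc] at h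
  exact h

theorem t'_g : ev t' * gen .g * ev t' = z0 := by
  rw [← t'_z]
  calc ev t' * (ev t' * z0 * ev t') * ev t' = (ev t' * ev t') * z0 * (ev t' * ev t') := by
        simp only [mul_assoc]
    _ = z0 := by rw [t'_sq, one_mul, mul_one]

/-- `Y₁ = t' y t'` in two forms. -/
theorem Y1_eq : ev t' * ev y * ev t' = (ev w1)⁻¹ * gen .h * ev w1 := by
  have h := ev_eq' ck_w1
  rw [ev_append, ev_append, ev_append, ev_cons, ev_reverse] at h
  rw [mul_assoc, mul_assoc]
  exact h.symm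

theorem Y1_eq' : ev t' * ev y * ev t' = (ev w2)⁻¹ * ev y * ev w2 := by
  have h := ev_eq' ck_w2
  rw [ev_append, ev_append, ev_append, ev_append, ev_reverse] at h
  rw [mul_assoc, mul_assoc]
  exact h.symm

/-- The first part of `w1`. -/
def w0 : List Lt := [.d, .c, .b, .a, .e, .d, .c, .b, .f, .e, .d, .c, .g, .f]

theorem w1_eq : ev X4Rel.w1 = ev w0 * gen .h * gen .d := by
  have : X4Rel.w1 = w0 ++ [.h, .d] := rfl
  rw [this, ev_append, ev_cons, ev_cons, ev_nil, mul_one, mul_assoc]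
  rfl

theorem w2_eq : ev X4Rel.w2 = ev w0 * ev y * gen .d := by
  have : X4Rel.w2 = w0 ++ (y ++ [.d]) := rfl
  rw [this, ev_append, ev_append, ev_cons, ev_nil, mul_one, mul_assoc]
  rfl

theorem u_even (E : Emb θ u) (n : ℕ) : u ^ (2 * n) = 1 := by
  rw [pow_mul, pow_two, E.sq, one_pow]

section

variable (E : Emb θ u) (hτu : τ * u = u * τ)
  (hτs : ∀ s : Fi22.Gen, s ≠ .h → τ * θ (gen (emb s)) * τ⁻¹ = u * θ (gen (emb s)))
  (hτh : τ * θ (gen .h) * τ⁻¹ = u * θ (ev y))
  (hτy : τ * θ (ev y) * τ⁻¹ = u * θ (gen .h))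

include E hτu hτs hτh in
theorem tau_w1 : τ * θ (ev w1) * τ⁻¹ = θ (ev w2) := by
  have h0 := tau_word E hτs w0 (by decide)
  have hl : w0.length = 2 * 7 := rfl
  rw [hl, u_even E, one_mul] at h0
  have hd := hτs .d (by decide)
  have hcy := u_comm_ev E (w := y) (by decide)
  rw [w1_eq, w2_eq, map_mul, map_mul, conj_mul, conj_mul, h0, hτh, map_mul, map_mul]
  have hd' : τ * θ (gen .d) * τ⁻¹ = u * θ (gen .d) := hd
  rw [hd']
  calc θ (ev w0) * (u * θ (ev y)) * (u * θ (gen .d))
      = θ (ev w0) * (u * (θ (ev y) * u) * θ (gen .d)) := by simp only [mul_assoc]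
    _ = θ (ev w0) * ((u * u) * θ (ev y) * θ (gen .d)) := by rw [hcy]; simp only [mul_assoc]
    _ = θ (ev w0) * θ (ev y) * θ (gen .d) := by rw [E.sq, one_mul]; simp only [mul_assoc]

include E hτu hτs hτh in
theorem tau_Y1 : τ * θ (ev t' * ev y * ev t') * τ⁻¹ = u * θ (ev t' * ev y * ev t') := by
  have h1 := tau_w1 E hτu hτs hτh
  have h1' : τ * (θ (ev w1))⁻¹ * τ⁻¹ = (θ (ev w2))⁻¹ := by
    rw [← h1]; group
  have hc : (θ (ev w2))⁻¹ * u = u * (θ (ev w2))⁻¹ := by
    have h2 := u_comm_ev E (w := w2) (by decide)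
    rw [inv_mul_eq_iff_eq_mul, ← mul_assoc, h2, mul_assoc, mul_inv_cancel, mul_one]
  have e1 : θ (ev t' * ev y * ev t') = (θ (ev w2))⁻¹ * θ (ev y) * θ (ev w2) := by
    rw [Y1_eq', map_mul, map_mul, map_inv]
  have e2 : θ (ev t' * ev y * ev t') = (θ (ev w1))⁻¹ * θ (gen .h) * θ (ev w1) := by
    rw [Y1_eq, map_mul, map_mul, map_inv]
  conv_rhs => rw [e1]
  rw [e2, conj_mul, conj_mul, h1', hτh, h1]
  calc (θ (ev w2))⁻¹ * (u * θ (ev y)) * θ (ev w2) = ((θ (ev w2))⁻¹ * u) * θ (ev y) * θ (ev w2) := by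
        simp only [mul_assoc]
    _ = u * ((θ (ev w2))⁻¹ * θ (ev y) * θ (ev w2)) := by rw [hc]; simp only [mul_assoc]

/-- The action of `P = τ t'`. -/
theorem P_conj (x : Fi23) : τ * θ (ev t') * θ x * (τ * θ (ev t'))⁻¹ = τ * θ (ev t' * x * ev t') * τ⁻¹ := by
  have h : (θ (ev t'))⁻¹ = θ (ev t') := by
    rw [inv_eq_iff_mul_eq_one, ← map_mul, t'_sq, map_one]
  rw [mul_inv_rev, h, map_mul, map_mul]
  simp only [mul_assoc]

include E hτu hτs in
theorem P_u : τ * θ (ev t') * u * (τ * θ (ev t'))⁻¹ = u * θ (gen .g) := by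
  conv_lhs => rw [← E.z]
  rw [P_conj, t'_z]
  exact hτs .g (by decide)

include E hτu in
theorem P_g : τ * θ (ev t') * θ (gen .g) * (τ * θ (ev t'))⁻¹ = u := by
  rw [P_conj, t'_g, E.z, hτu, mul_assoc, mul_inv_cancel, mul_one]

include E hτs in
theorem P_s (s : Fi22.Gen) (hf : s ≠ .f) (hg : s ≠ .g) (hh : s ≠ .h) :
    τ * θ (ev t') * θ (gen (emb s)) * (τ * θ (ev t'))⁻¹ = u * θ (gen (emb s)) := by
  rw [P_conj, t'_comm s hf hg, mul_assoc (gen (emb s)), t'_sq, mul_one]
  exact hτs s hh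

include hτh in
theorem P_h : τ * θ (ev t') * θ (gen .h) * (τ * θ (ev t'))⁻¹ = u * θ (ev y) := by
  have h := t'_comm .h (by decide) (by decide)
  have h' : ev t' * gen .h = gen .h * ev t' := h
  rw [P_conj, h', mul_assoc (gen .h), t'_sq, mul_one]
  exact hτh

include E hτu hτs hτh in
theorem P_y : τ * θ (ev t') * θ (ev y) * (τ * θ (ev t'))⁻¹ = u * θ (ev t' * ev y * ev t') := by
  rw [P_conj]
  exact tau_Y1 E hτu hτs hτh

include hτy in
theorem P_Y1 : τ * θ (ev t') * θ (ev t' * ev y * ev t') * (τ * θ (ev t'))⁻¹ = u * θ (gen .h) := by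
  rw [P_conj]
  have : ev t' * (ev t' * ev y * ev t') * ev t' = ev y := by
    calc ev t' * (ev t' * ev y * ev t') * ev t' = (ev t' * ev t') * ev y * (ev t' * ev t') := by
          simp only [mul_assoc]
      _ = ev y := by rw [t'_sq, one_mul, mul_one]
  rw [this]
  exact hτy

theorem ug_comm (E : Emb θ u) : θ (gen .g) * u = u * θ (gen .g) := by
  have := u_comm_ev E (w := [.g]) (by decide)
  rwa [ev_cons, ev_nil, mul_one] at this

theorem cube_conj (P x : G) : P ^ 3 * x * (P ^ 3)⁻¹ = P * (P * (P * x * P⁻¹) * P⁻¹) * P⁻¹ := by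
  simp only [pow_succ, pow_zero, one_mul, mul_inv_rev, mul_assoc]

theorem cube_of {P u g x x1 x2 x3 : G} (e1 : P * u * P⁻¹ = u * g) (e2 : P * g * P⁻¹ = u)
    (hu : u * u = 1) (c : g * u = u * g) (h1 : P * x * P⁻¹ = u * x1) (h2 : P * x1 * P⁻¹ = u * x2)
    (h3 : P * x2 * P⁻¹ = u * x3) : P ^ 3 * x * (P ^ 3)⁻¹ = x3 := by
  rw [cube_conj, h1, conj_mul (τ := P) (x := u), e1, h2]
  have h4 : u * g * (u * x2) = g * x2 := by
    calc u * g * (u * x2) = u * (g * u) * x2 := by simp only [mul_assoc]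
      _ = (u * u) * g * x2 := by rw [c]; simp only [mul_assoc]
      _ = _ := by rw [hu, one_mul]
  rw [h4, conj_mul (τ := P) (x := g), e2, h3, ← mul_assoc, hu, one_mul]

theorem cube_u' {P u g : G} (e1 : P * u * P⁻¹ = u * g) (e2 : P * g * P⁻¹ = u)
    (hu : u * u = 1) (c : g * u = u * g) : P ^ 3 * u * (P ^ 3)⁻¹ = u := by
  rw [cube_conj, e1, conj_mul (τ := P) (x := u), e1, e2, mul_assoc u g u, c, ← mul_assoc u u g, hu,
    one_mul, e2]

theorem cube_g' {P u g : G} (e1 : P * u * P⁻¹ = u * g) (e2 : P * g * P⁻¹ = u)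
    (hu : u * u = 1) (c : g * u = u * g) : P ^ 3 * g * (P ^ 3)⁻¹ = g := by
  rw [cube_conj, e2, e1, conj_mul (τ := P) (x := u), e1, e2, mul_assoc u g u, c, ← mul_assoc u u g, hu,
    one_mul]

include E hτu hτs in
theorem cube_s (s : Fi22.Gen) (hf : s ≠ .f) (hg : s ≠ .g) (hh : s ≠ .h) :
    (τ * θ (ev t')) ^ 3 * θ (gen (emb s)) * ((τ * θ (ev t')) ^ 3)⁻¹ = θ (gen (emb s)) := by
  have e3 := P_s E hτs s hf hg hh
  exact cube_of (P_u E hτu hτs) (P_g E hτu) E.sq (ug_comm E) e3 e3 e3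

include E hτu hτs hτh hτy in
theorem cube_h :
    (τ * θ (ev t')) ^ 3 * θ (gen .h) * ((τ * θ (ev t')) ^ 3)⁻¹ = θ (gen .h) :=
  cube_of (P_u E hτu hτs) (P_g E hτu) E.sq (ug_comm E) (P_h hτh) (P_y E hτu hτs hτh) (P_Y1 hτy)

include E hτu hτs in
theorem cube_u : (τ * θ (ev t')) ^ 3 * u * ((τ * θ (ev t')) ^ 3)⁻¹ = u :=
  cube_u' (P_u E hτu hτs) (P_g E hτu) E.sq (ug_comm E)

include E hτu hτs in
theorem cube_g : (τ * θ (ev t')) ^ 3 * θ (gen .g) * ((τ * θ (ev t')) ^ 3)⁻¹ = θ (gen .g) :=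
  cube_g' (P_u E hτu hτs) (P_g E hτu) E.sq (ug_comm E)

theorem comm_of_conj {a b : G} (h : a * b * a⁻¹ = b) : a * b = b * a := by
  rw [mul_inv_eq_iff_eq_mul] at h; exact h

theorem isConj_gen_K (s : Fi22.Gen) : IsConj (kgen .a) (kgen s) := by
  have step : ∀ x y : Fi22.Gen, coxLabel Fi22.edges x y = 3 → IsConj (kgen .a) (kgen x) →
      IsConj (kgen .a) (kgen y) := by
    intro x y hl hx
    have h := kgen_rel x y
    rw [hl] at h
    exact hx.trans (isConj_iff.2 ⟨kgen x * kgen y, (conj_of_edge (kgen_sq x) (kgen_sq y) h).symm⟩)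
  have ha : IsConj (kgen .a) (kgen .a) := IsConj.refl _
  have hb := step .a .b (by decide) ha
  have hc := step .b .c (by decide) hb
  have hd := step .c .d (by decide) hc
  have he := step .d .e (by decide) hd
  have hf := step .e .f (by decide) he
  have hg := step .f .g (by decide) hf
  have hh := step .d .h (by decide) hd
  have hi := step .h .i (by decide) hh
  cases s <;> assumption

include E hτu hτs hτh hτy in
/-- **The braid relation.** -/
theorem cube_eq_one (hV : LemV) (hC : Cent) : (τ * θ (ev t')) ^ 3 = 1 := by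
  set P := τ * θ (ev t') with hP
  set κ := P ^ 3 with hκ
  have hu : κ * u = u * κ := comm_of_conj (cube_u E hτu hτs)
  have hg : κ * θ (gen .g) = θ (gen .g) * κ := comm_of_conj (cube_g E hτu hτs)
  obtain ⟨α, hα⟩ := E.exists_aut hu
  have h1 : α (kgen .g) = kgen .g := by
    apply E.coe_inj
    rw [← hα]
    show κ * θ (gen .g) * κ⁻¹ = θ (gen .g)
    rw [hg, mul_assoc, mul_inv_cancel, mul_one]
  have h2 : IsConj (kgen .a) (α (kgen .a)) := by
    obtain ⟨k, hk⟩ := isConj_iff.1 (isConj_gen_K .g)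
    have h3 : IsConj (α (kgen .a)) (kgen .g) := by
      refine isConj_iff.2 ⟨α k, ?_⟩
      rw [← map_inv, ← map_mul, ← map_mul, hk, h1]
    exact (isConj_gen_K .g).trans h3.symm
  obtain ⟨k, hk⟩ := E.mem_of_isConj hV hα h2
  have h3 : ∀ s : Fi22.Gen, s ≠ .f → k * kgen s = kgen s * k := by
    intro s hs
    apply E.coe_inj
    rw [Subgroup.coe_mul, Subgroup.coe_mul, map_mul, map_mul, hk]
    show κ * θ (gen (emb s)) = θ (gen (emb s)) * κ
    by_cases h4 : s = .g
    · subst h4; exact hg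
    · by_cases h5 : s = .h
      · subst h5; exact comm_of_conj (cube_h E hτu hτs hτh hτy)
      · exact comm_of_conj (cube_s E hτu hτs s hs h4 h5)
  have hPκ : P * κ * P⁻¹ = κ := by
    rw [hκ]
    group
  have e1 := P_u E hτu hτs
  have e2 := P_g E hτu
  have hune := E.ne
  have hgz : θ (gen .g) ≠ u := by
    intro h4
    rw [← E.z] at h4
    have h5 := E.inj h4
    -- `gen g = z0` commutes with `f`
    have h6 : (gen .g : Fi23) * gen .f = gen .f * gen .g := by
      rw [h5]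
      exact (comm_z0 card_le _ (gen_mem_K .f (by decide))).symm
    have h7 : ((gen .g : Fi23) * gen .f) ^ 3 = 1 := gen_rel .g .f
    have h8 : ((gen .g : Fi23) * gen .f) ^ 2 = 1 := by
      rw [pow_two]
      calc gen .g * gen .f * (gen .g * gen .f) = gen .g * (gen .f * gen .g) * gen .f := by
            simp only [mul_assoc]
        _ = (gen .g * gen .g) * (gen .f * gen .f) := by rw [← h6]; simp only [mul_assoc]
        _ = 1 := by rw [gen_sq, gen_sq, one_mul]
    have h9 : (gen .g : Fi23) * gen .f = 1 := by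
      rw [pow_succ, h8, one_mul] at h7
      exact h7
    have h10 : (gen .f : Fi23) = z0 := by
      rw [← h5, ← mul_one (gen .g), ← h9, ← mul_assoc, gen_sq, one_mul]
    apply z0_ncomm
    rw [← h10]
    exact gen_comm _ _ (by decide)
  have hg1 : θ (gen .g) ≠ 1 := by
    intro h4
    rw [h4, mul_one, mul_inv_cancel] at e2
    exact hune e2.symm
  rcases hC k h3 with h4 | h4 | h4 | h4
  · rw [← hk, h4]; exact map_one θ
  · exfalso
    have h5 : κ = u := by rw [← hk, h4]; exact E.z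
    rw [h5] at hPκ
    rw [e1] at hPκ
    exact hg1 (mul_eq_left.1 hPκ)
  · exfalso
    have h5 : κ = θ (gen .g) := by rw [← hk, h4]; rfl
    rw [h5, e2] at hPκ
    exact hgz hPκ.symm
  · exfalso
    have h5 : κ = u * θ (gen .g) := by
      rw [← hk, h4, Subgroup.coe_mul, map_mul, kgen_z, E.z]; rfl
    rw [h5, conj_mul, e1, e2] at hPκ
    have h6 := ug_comm E
    rw [mul_assoc, h6, ← mul_assoc, E.sq, one_mul] at hPκ
    exact hune (mul_eq_right.1 hPκ.symm)

end

end Cfsg.Agent.R08.X4Kappa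
end

-- part: R08/X4Main
section
/-!
The outer element `τ` with all its relations.
-/

set_option autoImplicit false
set_option linter.constructorNameAsVariable false
set_option maxRecDepth 100000

namespace Cfsg.Agent.R08.X4Main

open Cfsg Cfsg.Spor Cfsg.Agent.Fischer.Fi23Class Cfsg.Agent.Fischer.Fi23Cover
  Cfsg.Agent.Fischer.Fi23Z Cfsg.Agent.Fischer.Fi23Orb Cfsg.Agent.Fischer.Fi23Hom
  Cfsg.Agent.R08.X4Rel Cfsg.Agent.R08.X4Pres Cfsg.Agent.R08.X4Tau Cfsg.Agent.R08.X4Kappa

universe u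

variable {G : Type u} [Group G]

/-- The relations of the outer element. -/
structure Outer (θ : Fi23 →* G) (u τ : G) : Prop where
  comm : τ * u = u * τ
  hs : ∀ s : Fi22.Gen, s ≠ .h → τ * θ (gen (emb s)) * τ⁻¹ = u * θ (gen (emb s))
  hh : τ * θ (gen .h) * τ⁻¹ = u * θ (ev y)
  sq : τ * τ = 1 ∨ τ * τ = u
  braid : (τ * θ (ev t')) ^ 3 = 1

/-- **The outer element.** -/
theorem exists_outer (hV : LemV) (hC : X4Tau.Char) (hZ : Cent) {γ : K ≃* K} (hγ : Gam γ)
    {θ : Fi23 →* G} {u : G} (E : Emb θ u) :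
    ∃ τ : G, Outer θ u τ ∧ (∀ k : K, θ k ≠ τ) ∧ (∀ k : K, τ * θ k * τ⁻¹ = θ (γ k)) ∧
      ∀ k : K, IsConj (kgen .a) k → ∃ k' : K, IsConj (kgen .a) k' ∧ τ * θ k' * τ⁻¹ = u * θ k := by
  obtain ⟨τ, h1, h2, h3⟩ := E.exists_tau hV hC hγ
  have hs := E.tau_gen hγ h3
  have hh := E.tau_h hγ h3
  have hy := E.tau_y hγ h3
  refine ⟨τ, ⟨h1, hs, hh, E.tau_sq hγ h3, cube_eq_one E h1 hs hh hy hV hZ⟩, h2, h3, ?_⟩
  intro k hk
  obtain ⟨c, rfl⟩ := isConj_iff.1 hk
  refine ⟨γ c * kgen .a * (γ c)⁻¹, isConj_iff.2 ⟨γ c, rfl⟩, ?_⟩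
  have h4 : γ (γ c * kgen .a * (γ c)⁻¹) = zK * (c * kgen .a * c⁻¹) := by
    rw [map_mul, map_mul, map_inv, hγ.inv, hγ.gen _ (by decide), ← mul_assoc c, zK_comm c]
    simp only [mul_assoc]
  rw [h3, h4, Subgroup.coe_mul, map_mul, kgen_z, E.z]

end Cfsg.Agent.R08.X4Main
end

-- part: R08/X4LemV
section
/-!
The hypotheses `LemV` and `Char` from Lemma V.
-/

set_option autoImplicit false
set_option linter.constructorNameAsVariable false
set_option maxRecDepth 100000

namespace Cfsg.Agent.R08.X4LemV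

open Cfsg Cfsg.Spor Cfsg.Agent.Fischer.Fi23Class Cfsg.Agent.Fischer.Fi23Cover
  Cfsg.Agent.Fischer.Fi23Z Cfsg.Agent.Fischer.Fi23Orb Cfsg.Agent.Fischer.Fi23Hom
  Cfsg.Agent.R08.X4Rel Cfsg.Agent.R08.X4Pres Cfsg.Agent.R08.X4Tau Cfsg.Agent.R08.X4Kappa
  Cfsg.Agent.R08.LiftCls

theorem ext : R01.Lifts.Ext FiTwentyThree.pi zK := FiTwentyThree.ext

theorem pi_kgen (s : Fi22.Gen) : FiTwentyThree.pi (kgen s) = Cfsg.Agent.Fischer.Fi22PtsRep.gen s := by
  have h : kgen s = R01.AlphaFi23.t s := by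
    apply Subtype.ext
    cases s <;> rfl
  rw [h]
  exact FiTwentyThree.pi_t s

theorem exists_cls_a : ∃ D : Set K, Cls FiTwentyThree.pi zK D ∧ kgen .a ∈ D := by
  apply exists_cls_mem ext commutator_K
  rw [pi_kgen]
  exact R01.Fi22Facts.gen_mem .a

theorem mem_iff {D : Set K} (hD : Cls FiTwentyThree.pi zK D) (ha : kgen .a ∈ D) (x : K) :
    x ∈ D ↔ IsConj (kgen .a) x := by
  constructor
  · intro hx
    obtain ⟨c, hc⟩ := hD.trans ha hx
    exact isConj_iff.2 ⟨c, hc⟩
  · intro hx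
    obtain ⟨c, rfl⟩ := isConj_iff.1 hx
    exact hD.conj c ha

theorem char : X4Tau.Char := by
  obtain ⟨D, hD, ha⟩ := exists_cls_a
  intro α
  have hz := aut_z hD.ext α
  rcases hD.aut_cases α hz with h | h
  · left
    exact (mem_iff hD ha _).1 (h _ ha)
  · right
    have := (mem_iff hD ha _).1 (h _ ha)
    rwa [zK_comm] at this

theorem lemV (hV : X1.LemmaV.{0}) : X4Tau.LemV := by
  obtain ⟨D, hD, ha⟩ := exists_cls_a
  intro α hα
  refine hV K FiTwentyThree.pi zK D hD.lifted commutator_K α fun d hd => ?_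
  obtain ⟨c, rfl⟩ := hD.trans ha hd
  have h1 : α (kgen .a) ∈ D := (mem_iff hD ha _).2 hα
  rw [map_mul, map_mul, map_inv]
  exact hD.conj _ h1

end Cfsg.Agent.R08.X4LemV
end

-- part: R08/X4Cent
section
/-!
The centraliser of `⟨a, b, c, d, e, h, i, g⟩` (all generators except `f`) in `Fi22` is `⟨g⟩`, in the double cover
`K = C(z0)` it is `⟨z0, g⟩`.
-/

set_option autoImplicit false
set_option linter.constructorNameAsVariable false
set_option maxRecDepth 100000

namespace Cfsg.Agent.R08.X4Cent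

open Cfsg Cfsg.Spor Cfsg.Agent.Fischer Cfsg.Agent.Fischer.Abstract
open Cfsg.Agent.Fischer.Group22 Cfsg.Agent.Fischer.Rank22
open Cfsg.Agent.Fischer.Fi22PtsRep (gen gen_sq)
open Cfsg.Agent.SporRec.Fi22Iso (cv)
open Cfsg.Agent.Fischer.Fi23Class (K)
open Cfsg.Agent.Fischer.Fi23Cover (kgen zK)

/-- If the point `p` is fixed by `a, b, c, d, h, i` and not by `g`, it is `2854` or `2882`. -/
noncomputable def chk (p : ℕ) : Bool :=
  Cert.bite (Nat.beq (Data22.nx .a p) p)
    (Cert.bite (Nat.beq (Data22.nx .b p) p)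
      (Cert.bite (Nat.beq (Data22.nx .c p) p)
        (Cert.bite (Nat.beq (Data22.nx .d p) p)
          (Cert.bite (Nat.beq (Data22.nx .h p) p)
            (Cert.bite (Nat.beq (Data22.nx .i p) p)
              (Cert.bite (Nat.beq (Data22.nx .g p) p) true
                (Cert.bite (Nat.beq p 2854) true (Nat.beq p 2882))) true) true) true) true) true) true

theorem ck : Cert.allGrid (nat_lit 54) (nat_lit 65) chk = true := by decide +kernel

theorem ckf : Nat.beq (pg .f : X) 2854 = true := by decide +kernel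

theorem ckg : Nat.beq (Data22.nx .g 2854) 2882 = true := by decide +kernel

theorem bite_eq {c a b : Bool} : Cert.bite c a b = true ↔ (c = true → a = true) ∧ (c = false → b = true) := by
  cases c <;> simp [Cert.bite]

theorem point {p : ℕ} (hp : p < 3510) (ha : Data22.nx .a p = p) (hb : Data22.nx .b p = p)
    (hc : Data22.nx .c p = p) (hd : Data22.nx .d p = p) (hh : Data22.nx .h p = p) (hi : Data22.nx .i p = p)
    (hg : Data22.nx .g p ≠ p) : p = 2854 ∨ p = 2882 := by
  have h := Cert.allGrid_spec ck p hp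
  unfold chk at h
  have e : ∀ q : ℕ, q = p → Nat.beq q p = true := fun q hq => by rw [hq]; exact Nat.beq_refl p
  have h1 := (bite_eq.1 h).1 (e _ ha)
  have h2 := (bite_eq.1 h1).1 (e _ hb)
  have h3 := (bite_eq.1 h2).1 (e _ hc)
  have h4 := (bite_eq.1 h3).1 (e _ hd)
  have h5 := (bite_eq.1 h4).1 (e _ hh)
  have h6 := (bite_eq.1 h5).1 (e _ hi)
  have hg' : Nat.beq (Data22.nx .g p) p = false := by
    rcases Bool.eq_false_or_eq_true (Nat.beq (Data22.nx .g p) p) with h7 | h7
    · exact absurd (Nat.eq_of_beq_eq_true h7) hg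
    · exact h7
  have h7 := (bite_eq.1 h6).2 hg'
  rcases Bool.eq_false_or_eq_true (Nat.beq p 2854) with h8 | h8
  · exact Or.inl (Nat.eq_of_beq_eq_true h8)
  · exact Or.inr (Nat.eq_of_beq_eq_true ((bite_eq.1 h7).2 h8))

/-- An element of `Fi22` commuting with all generators is trivial. -/
theorem eq_one_of_comm {k : Spor.Fi22} (h : ∀ s, k * gen s = gen s * k) : k = 1 := by
  have hs := Cfsg.Agent.R01.Fi22Facts.isSimple
  have hk : k ∈ Subgroup.center Spor.Fi22 := by
    rw [Subgroup.mem_center_iff]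
    intro x
    have hx : x ∈ Subgroup.closure (Set.range gen) := by rw [Fi22PtsRep.closure_gen]; trivial
    have h1 : Subgroup.closure (Set.range gen) ≤ Subgroup.centralizer {k} := by
      rw [Subgroup.closure_le]
      rintro _ ⟨s, rfl⟩
      rw [SetLike.mem_coe, Subgroup.mem_centralizer_singleton_iff]
      exact (h s).symm
    exact Subgroup.mem_centralizer_singleton_iff.1 (h1 hx)
  rcases hs.eq_bot_or_eq_top_of_normal (Subgroup.center Spor.Fi22) inferInstance with h1 | h1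
  · rw [h1] at hk
    exact Subgroup.mem_bot.1 hk
  · exfalso
    have h2 : R.t R.x0 * R.t R.b = R.t R.b * R.t R.x0 := by
      apply Cfsg.Agent.R01.Fi22Facts.E.injective
      rw [map_mul, map_mul]
      have h3 : Cfsg.Agent.R01.Fi22Facts.E (R.t R.b) ∈ Subgroup.center Spor.Fi22 := by rw [h1]; trivial
      exact Subgroup.mem_center_iff.1 h3 _
    exact R.ncomm_b h2

/-- **The centraliser in `Fi22` of all generators except `f`.** -/
theorem cent22 {k : Spor.Fi22} (h : ∀ s, s ≠ .f → k * gen s = gen s * k) : k = 1 ∨ k = gen .g := by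
  obtain ⟨x, rfl⟩ := Cfsg.Agent.R01.Fi22Facts.E.surjective k
  have hx : ∀ s, s ≠ Spor.Fi22.Gen.f → x * g (cv s) = g (cv s) * x := by
    intro s hs
    apply Cfsg.Agent.R01.Fi22Facts.E.injective
    rw [map_mul, map_mul, Cfsg.Agent.R01.Fi22Facts.E_g]
    exact h s hs
  have hfix : ∀ s, s ≠ Spor.Fi22.Gen.f → g (cv s) • (pg .f : X) = pg .f →
      g (cv s) • (x • (pg .f : X)) = x • (pg .f : X) := by
    intro s hs h1
    rw [← mul_smul, ← hx s hs, mul_smul, h1]
  have hcom : ∀ s, coxLabel Spor.Fi22.edges s .f = 2 → g (cv s) • (pg .f : X) = pg .f := by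
    intro s hs
    have h1 : R.t (pg .f) = g .f := t_pg .f
    rw [R.smul_eq_iff_comm, h1]
    apply Cfsg.Agent.R01.Fi22Facts.E.injective
    have h2 : Cfsg.Agent.R01.Fi22Facts.E (g .f) = gen .f := Cfsg.Agent.R01.Fi22Facts.E_g .f
    rw [map_mul, map_mul, Cfsg.Agent.R01.Fi22Facts.E_g, h2]
    exact Fi22PtsRep.gen_comm hs
  have hgf : ((g .g • (pg .f : X) : X) : ℕ) = 2882 := by
    rw [g_smul]
    have h1 : ((pg .f : X) : ℕ) = 2854 := Nat.eq_of_beq_eq_true ckf
    rw [h1]
    exact Nat.eq_of_beq_eq_true ckg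
  have hf : ((pg .f : X) : ℕ) = 2854 := Nat.eq_of_beq_eq_true ckf
  have hne : g .g • (x • (pg .f : X)) ≠ x • (pg .f : X) := by
    intro h1
    have h2 : g .g * x = x * g .g := (hx .g (by decide)).symm
    rw [← mul_smul, h2, mul_smul] at h1
    have h3 := congrArg (fun p : X => (p : ℕ)) ((MulAction.injective x) h1)
    have h4 : ((g .g • (pg .f : X) : X) : ℕ) = ((pg .f : X) : ℕ) := h3
    rw [hgf, hf] at h4
    exact absurd h4 (by decide)
  have hval : ∀ s, s ≠ Spor.Fi22.Gen.f → coxLabel Spor.Fi22.edges s .f = 2 →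
      Data22.nx (cv s) (x • (pg .f : X) : X) = ((x • (pg .f : X) : X) : ℕ) := by
    intro s hs hl
    rw [← g_smul, hfix s hs (hcom s hl)]
  have hq : ((x • (pg .f : X) : X) : ℕ) = 2854 ∨ ((x • (pg .f : X) : X) : ℕ) = 2882 := by
    refine point (Fin.is_lt _) (hval .a (by decide) (by decide)) (hval .b (by decide) (by decide))
      (hval .c (by decide) (by decide)) (hval .d (by decide) (by decide)) (hval .h (by decide) (by decide))
      (hval .i (by decide) (by decide)) ?_
    rw [← g_smul]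
    intro h1
    exact hne (Fin.ext h1)
  have hgen : ∀ s, cv s = Data22.Gen.f → s = Spor.Fi22.Gen.f := by
    intro s hs
    cases s <;> first | rfl | exact absurd hs (by decide)
  -- an element commuting with all generators except `f` and fixing the point of `f` is trivial
  have triv : ∀ y : G, (∀ s, s ≠ Spor.Fi22.Gen.f → y * g (cv s) = g (cv s) * y) →
      y • (pg .f : X) = pg .f → Cfsg.Agent.R01.Fi22Facts.E y = 1 := by
    intro y hy hyf
    apply eq_one_of_comm
    intro s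
    by_cases hs : s = .f
    · subst hs
      have h1 : R.t (pg .f) = g .f := t_pg .f
      rw [R.smul_eq_iff_comm, h1] at hyf
      rw [← Cfsg.Agent.R01.Fi22Facts.E_g .f, ← map_mul, ← map_mul]
      exact congrArg _ hyf
    · rw [← Cfsg.Agent.R01.Fi22Facts.E_g s, ← map_mul, ← map_mul, hy s hs]
  rcases hq with h1 | h1
  · left
    exact triv x hx (Fin.ext (h1.trans hf.symm))
  · right
    have h2 : x • (pg .f : X) = g .g • (pg .f : X) := Fin.ext (h1.trans hgf.symm)
    have h3 : Cfsg.Agent.R01.Fi22Facts.E (g .g * x) = 1 := by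
      apply triv
      · intro s hs
        have h4 : g .g * g (cv s) = g (cv s) * g .g := by
          by_cases hs' : s = .g
          · subst hs'; rfl
          · apply Cfsg.Agent.R01.Fi22Facts.E.injective
            have h5 : Cfsg.Agent.R01.Fi22Facts.E (g .g) = gen .g := Cfsg.Agent.R01.Fi22Facts.E_g .g
            rw [map_mul, map_mul, Cfsg.Agent.R01.Fi22Facts.E_g, h5]
            have hl : ∀ s : Spor.Fi22.Gen, s ≠ .f → s ≠ .g → coxLabel Spor.Fi22.edges .g s = 2 := by
              intro s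
              cases s <;> decide
            exact Fi22PtsRep.gen_comm (hl s hs hs')
        rw [mul_assoc, hx s hs, ← mul_assoc, h4, mul_assoc]
      · rw [mul_smul, h2, ← mul_smul, g_sq, one_smul]
    rw [map_mul] at h3
    have h4 : Cfsg.Agent.R01.Fi22Facts.E (g .g) = gen .g := Cfsg.Agent.R01.Fi22Facts.E_g .g
    rw [h4] at h3
    have h5 := inv_eq_of_mul_eq_one_right h3
    rw [← h5]
    exact inv_eq_of_mul_eq_one_left (gen_sq .g)

/-- **The centraliser in `K`.** -/
theorem main {k : K} (h : ∀ s : Fi22.Gen, s ≠ .f → k * kgen s = kgen s * k) :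
    k = 1 ∨ k = zK ∨ k = kgen .g ∨ k = zK * kgen .g := by
  have hk : ∀ s, kgen s = Cfsg.Agent.R01.AlphaFi23.t s := fun s => by
    apply Subtype.ext
    cases s <;> rfl
  have h1 : ∀ s, s ≠ .f → FiTwentyThree.pi k * gen s = gen s * FiTwentyThree.pi k := by
    intro s hs
    rw [← FiTwentyThree.pi_t, ← map_mul, ← map_mul, ← hk, h s hs]
  have hz : FiTwentyThree.zK = zK := Subtype.ext rfl
  rcases cent22 h1 with h2 | h2
  · rcases (FiTwentyThree.pi_ker k).1 h2 with h3 | h3
    · exact Or.inl h3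
    · exact Or.inr (Or.inl (by rw [h3, hz]))
  · rw [← FiTwentyThree.pi_t, ← hk] at h2
    rcases FiTwentyThree.ext.map_eq.1 h2 with h3 | h3
    · exact Or.inr (Or.inr (Or.inl h3))
    · exact Or.inr (Or.inr (Or.inr (by rw [h3, FiTwentyThree.ext.comm, hz])))

end Cfsg.Agent.R08.X4Cent
end

-- part: R08/X5Hand
section
/-!
The hand algebra of the extension of `Fi23` by an element `τ` normalising `K` with the relations T1-T5:
`τ` is an involution, the elements `θ (gen s)` and `w = τ (u X) τ⁻¹` satisfy the relations `Even.Rel`, and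
`τ` is in the group they generate.
-/

set_option autoImplicit false
set_option linter.constructorNameAsVariable false
set_option maxRecDepth 100000
set_option linter.unusedSectionVars false

namespace Cfsg.Agent.R08.X5Hand

open Cfsg.Spor Cfsg.Agent.R08.X4Rel
open Cfsg.Agent.Fischer.Fi23Hom (gen)
open Cfsg.Agent.Fischer.Fi23Z (z0)

universe u

variable {G : Type u} [Group G]

/-- The hypotheses on `τ`. -/
structure Hyp (θ : Fi23 →* G) (τ : G) : Prop where
  inj : Function.Injective θ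
  t1 : ∀ s : Fi23.Gen, s ≠ .j → s ≠ .h → τ * θ (gen s) * τ⁻¹ = θ z0 * θ (gen s)
  t2 : τ * θ (gen .h) * τ⁻¹ = θ z0 * θ (ev y)
  t3 : τ * θ z0 = θ z0 * τ
  t4 : (τ * θ (ev t')) ^ 3 = 1
  t5 : τ * τ = 1 ∨ τ * τ = θ z0

/-- The element `w`. -/
noncomputable def wEl (θ : Fi23 →* G) (τ : G) : G := τ * (θ z0 * θ (ev X)) * τ⁻¹

variable {θ : Fi23 →* G} {τ : G}

/-! ### Words -/

theorem ev_one (x : Lt) : ev [x] = x.el := by rw [ev_cons, ev_nil, mul_one]

/-- Letters other than `j`. -/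
def inK : Lt → Bool
  | .j => false
  | _ => true

theorem comm_letter (x : Lt) (h : inK x = true) : x.el * z0 = z0 * x.el := by
  cases x
  · exact (Cfsg.Agent.Fischer.Fi23Class.comm_z0 card_le _
      (Cfsg.Agent.Fischer.Fi23Class.gen_mem_K .a (by decide)))
  · exact (Cfsg.Agent.Fischer.Fi23Class.comm_z0 card_le _
      (Cfsg.Agent.Fischer.Fi23Class.gen_mem_K .b (by decide)))
  · exact (Cfsg.Agent.Fischer.Fi23Class.comm_z0 card_le _
      (Cfsg.Agent.Fischer.Fi23Class.gen_mem_K .c (by decide)))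
  · exact (Cfsg.Agent.Fischer.Fi23Class.comm_z0 card_le _
      (Cfsg.Agent.Fischer.Fi23Class.gen_mem_K .d (by decide)))
  · exact (Cfsg.Agent.Fischer.Fi23Class.comm_z0 card_le _
      (Cfsg.Agent.Fischer.Fi23Class.gen_mem_K .e (by decide)))
  · exact (Cfsg.Agent.Fischer.Fi23Class.comm_z0 card_le _
      (Cfsg.Agent.Fischer.Fi23Class.gen_mem_K .f (by decide)))
  · exact (Cfsg.Agent.Fischer.Fi23Class.comm_z0 card_le _
      (Cfsg.Agent.Fischer.Fi23Class.gen_mem_K .g (by decide)))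
  · exact absurd h (by decide)
  · exact (Cfsg.Agent.Fischer.Fi23Class.comm_z0 card_le _
      (Cfsg.Agent.Fischer.Fi23Class.gen_mem_K .h (by decide)))
  · exact (Cfsg.Agent.Fischer.Fi23Class.comm_z0 card_le _
      (Cfsg.Agent.Fischer.Fi23Class.gen_mem_K .i (by decide)))
  · rfl

theorem comm_word (w : List Lt) (h : w.all inK = true) : ev w * z0 = z0 * ev w := by
  induction w with
  | nil => rw [ev_nil, one_mul, mul_one]
  | cons x w ih =>
    rw [List.all_cons, Bool.and_eq_true] at h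
    rw [ev_cons, mul_assoc, ih h.2, ← mul_assoc, comm_letter x h.1, mul_assoc]

theorem y_all : y.all inK = true := by decide

theorem y_sq : ev y * ev y = 1 := by
  unfold y
  rw [ev_append, ev_cons, ev_reverse]
  have h := el_sq .h
  calc ev q * (Lt.h.el * (ev q)⁻¹) * (ev q * (Lt.h.el * (ev q)⁻¹)) = ev q * (Lt.h.el * Lt.h.el) * (ev q)⁻¹ := by group
    _ = 1 := by rw [h, mul_one, mul_inv_cancel]

theorem X_sq : ev X * ev X = 1 := by
  have hm : ev m * ev m = 1 := by
    have h1 : m = m.reverse := by decide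
    have h2 : ev m = (ev m)⁻¹ := by
      conv_lhs => rw [h1]
      rw [ev_reverse]
    nth_rw 1 [h2]
    rw [inv_mul_cancel]
  have h := el_sq .z
  unfold X
  rw [ev_append, ev_cons]
  calc ev m * (Lt.z.el * ev m) * (ev m * (Lt.z.el * ev m)) = ev m * (Lt.z.el * (ev m * ev m) * Lt.z.el) * ev m := by group
    _ = 1 := by rw [hm, mul_one, h, mul_one, hm]

theorem tt : ev t' * ev t' = 1 := by
  have h1 : Lt.g.el * Lt.z.el = Lt.z.el * Lt.g.el := comm_letter .g rfl
  have hj := el_sq .j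
  have hz := el_sq .z
  have hg := el_sq .g
  unfold t'
  rw [ev_cons, ev_cons, ev_cons, ev_one]
  calc Lt.j.el * (Lt.g.el * (Lt.z.el * Lt.j.el)) * (Lt.j.el * (Lt.g.el * (Lt.z.el * Lt.j.el)))
      = Lt.j.el * (Lt.g.el * Lt.z.el) * (Lt.j.el * Lt.j.el) * (Lt.g.el * Lt.z.el) * Lt.j.el := by group
    _ = Lt.j.el * (Lt.g.el * Lt.z.el) * (Lt.z.el * Lt.g.el) * Lt.j.el := by rw [hj, mul_one, ← h1]
    _ = Lt.j.el * Lt.g.el * (Lt.z.el * Lt.z.el) * Lt.g.el * Lt.j.el := by group
    _ = Lt.j.el * (Lt.g.el * Lt.g.el) * Lt.j.el := by rw [hz]; group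
    _ = 1 := by rw [hg, mul_one, hj]

/-- `z0 X ≠ 1`. -/
theorem zX_ne : z0 * ev X ≠ 1 := by
  intro h
  have hz : z0 * z0 = 1 := el_sq .z
  have hX : ev X = z0 := by
    calc ev X = z0 * z0 * ev X := by rw [hz, one_mul]
      _ = z0 * (z0 * ev X) := by group
      _ = z0 := by rw [h, mul_one]
  have h3 : (gen .a * z0) ^ 3 = 1 := by
    have h1 := ev_eq' ck_aX
    rw [ev_pw, ev_cons, hX, ev_nil] at h1
    exact h1
  have hc : gen .a * z0 = z0 * gen .a := comm_letter .a rfl
  have ha : gen .a * gen .a = 1 := el_sq .a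
  have h4 : gen .a * z0 = 1 := by
    calc gen .a * z0 = gen .a * z0 * ((gen .a * gen .a) * (z0 * z0)) := by rw [ha, hz]; group
      _ = gen .a * z0 * (gen .a * (gen .a * z0) * z0) := by group
      _ = gen .a * z0 * (gen .a * (z0 * gen .a) * z0) := by rw [hc]
      _ = (gen .a * z0) ^ 3 := by
        rw [pow_succ, pow_succ, pow_one]
        simp only [mul_assoc]
      _ = 1 := h3
  have h5 : gen .a = z0 := by
    calc gen .a = gen .a * (z0 * z0) := by rw [hz, mul_one]
      _ = gen .a * z0 * z0 := by group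
      _ = z0 := by rw [h4, one_mul]
  apply Cfsg.Agent.Fischer.Fi23Class.z0_ncomm
  rw [← h5]
  exact Cfsg.Agent.Fischer.Fi23Class.gen_comm .a .j (by decide)

/-! ### The relations in `G` -/

/-- Letters with `τ x τ⁻¹ = u x`. -/
def good : Lt → Bool
  | .j => false
  | .h => false
  | .z => false
  | _ => true

theorem good_inK (x : Lt) (h : good x = true) : inK x = true := by
  cases x <;> first | rfl | exact absurd h (by decide)

section

variable (H : Hyp θ τ)
include H

theorem uu : θ z0 * θ z0 = 1 := by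
  rw [← map_mul, show z0 * z0 = 1 from el_sq .z, map_one]

theorem sq (x : Lt) : θ x.el * θ x.el = 1 := by rw [← map_mul, el_sq, map_one]

theorem comm_u (x : Lt) (h : inK x = true) : θ x.el * θ z0 = θ z0 * θ x.el := by
  rw [← map_mul, comm_letter x h, map_mul]

theorem conj_letter (x : Lt) (h : good x = true) : τ * θ x.el * τ⁻¹ = θ z0 * θ x.el := by
  cases x
  · exact H.t1 .a (by decide) (by decide)
  · exact H.t1 .b (by decide) (by decide)
  · exact H.t1 .c (by decide) (by decide)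
  · exact H.t1 .d (by decide) (by decide)
  · exact H.t1 .e (by decide) (by decide)
  · exact H.t1 .f (by decide) (by decide)
  · exact H.t1 .g (by decide) (by decide)
  · exact absurd h (by decide)
  · exact absurd h (by decide)
  · exact H.t1 .i (by decide) (by decide)
  · exact absurd h (by decide)

theorem conj_word (w : List Lt) (h : w.all good = true) :
    τ * θ (ev w) * τ⁻¹ = θ z0 ^ w.length * θ (ev w) := by
  induction w with
  | nil => rw [ev_nil, map_one, mul_one, mul_inv_cancel, List.length_nil, pow_zero, mul_one]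
  | cons x w ih =>
    rw [List.all_cons, Bool.and_eq_true] at h
    have hx := conj_letter H x h.1
    have hc : θ x.el * θ z0 ^ w.length = θ z0 ^ w.length * θ x.el :=
      Commute.pow_right (comm_u H x (good_inK x h.1)) w.length
    rw [ev_cons, map_mul, List.length_cons, pow_succ']
    calc τ * (θ x.el * θ (ev w)) * τ⁻¹ = (τ * θ x.el * τ⁻¹) * (τ * θ (ev w) * τ⁻¹) := by group
      _ = θ z0 * (θ x.el * θ z0 ^ w.length) * θ (ev w) := by rw [hx, ih h.2]; group
      _ = θ z0 * θ z0 ^ w.length * (θ x.el * θ (ev w)) := by rw [hc]; group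

theorem u_even (n : ℕ) : θ z0 ^ (2 * n) = 1 := by
  rw [pow_mul, pow_two, uu H, one_pow]

/-- `A = g X'` commutes with `τ`. -/
theorem A_comm : τ * θ (ev (.g :: X')) * τ⁻¹ = θ (ev (.g :: X')) := by
  rw [conj_word H (.g :: X') (by decide), show (Lt.g :: X').length = 2 * 7 from rfl, u_even H, one_mul]

/-- `e0` commutes with `τ`. -/
theorem e0_comm : τ * θ (ev e0) * τ⁻¹ = θ (ev e0) := by
  rw [conj_word H e0 (by decide), show e0.length = 2 * 6 from rfl, u_even H, one_mul]

theorem uX_eq : θ z0 * θ (ev X) = θ (ev t') * θ (ev (.g :: X')) * θ (ev t') := by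
  have h := ev_eq' ck_zX'
  rw [show (Lt.g :: (X' ++ t')) = (Lt.g :: X') ++ t' from rfl, ev_append, ev_append, ev_cons .z X] at h
  have h2 := congrArg θ h
  rw [map_mul, map_mul, map_mul, ← mul_assoc] at h2
  exact h2.symm

theorem tt' : θ (ev t') * θ (ev t') = 1 := by rw [← map_mul, tt, map_one]

theorem XX : θ (ev X) * θ (ev X) = 1 := by rw [← map_mul, X_sq, map_one]

/-- The inverse of `w`. -/
theorem w_inv : (wEl θ τ)⁻¹ = τ * (θ (ev X) * θ z0) * τ⁻¹ := by
  unfold wEl
  rw [mul_inv_rev, mul_inv_rev, inv_inv, mul_inv_rev, inv_eq_of_mul_eq_one_left (XX H),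
    inv_eq_of_mul_eq_one_left (uu H)]
  group

/-- If `v τ = τ v'`, `v'` commutes with `u X` up to inversion: the abstract step. -/
theorem inverts_of {v v' : G} (hv : v * v = 1) (hv' : v' * v' = 1) (h1 : v * τ = τ * v')
    (h2 : v' * (θ z0 * θ (ev X)) * v' = θ (ev X) * θ z0) : v * wEl θ τ * v = (wEl θ τ)⁻¹ := by
  have h3 : τ⁻¹ * v = v' * τ⁻¹ := by
    have h4 : (v * τ)⁻¹ = (τ * v')⁻¹ := by rw [h1]
    rw [mul_inv_rev, mul_inv_rev, inv_eq_of_mul_eq_one_left hv, inv_eq_of_mul_eq_one_left hv'] at h4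
    exact h4
  rw [w_inv H]
  unfold wEl
  calc v * (τ * (θ z0 * θ (ev X)) * τ⁻¹) * v = (v * τ) * (θ z0 * θ (ev X)) * (τ⁻¹ * v) := by group
    _ = τ * (v' * (θ z0 * θ (ev X)) * v') * τ⁻¹ := by rw [h1, h3]; group
    _ = τ * (θ (ev X) * θ z0) * τ⁻¹ := by rw [h2]

/-- `x τ = τ u x`. -/
theorem swap_letter (x : Lt) (h : good x = true) : θ x.el * τ = τ * (θ z0 * θ x.el) := by
  have h1 := conj_letter H x h
  calc θ x.el * τ = θ z0 * θ z0 * θ x.el * τ := by rw [uu H, one_mul]
    _ = θ z0 * (θ z0 * θ x.el) * τ := by group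
    _ = θ z0 * (τ * θ x.el * τ⁻¹) * τ := by rw [h1]
    _ = (θ z0 * τ) * θ x.el := by group
    _ = (τ * θ z0) * θ x.el := by rw [H.t3]
    _ = τ * (θ z0 * θ x.el) := by group

theorem inv_letter (x : Lt) (h : good x = true) (hX : chk (X ++ [x]) (x :: X) = true) :
    θ x.el * wEl θ τ * θ x.el = (wEl θ τ)⁻¹ := by
  have hu := comm_u H x (good_inK x h)
  have hx := sq H x
  have h0 := uu H
  have hc : θ (ev X) * θ x.el = θ x.el * θ (ev X) := by
    have h1 := ev_eq' hX
    rw [ev_append, ev_one, ev_cons] at h1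
    rw [← map_mul, h1, map_mul]
  refine inverts_of H hx ?_ (swap_letter H x h) ?_
  · calc θ z0 * θ x.el * (θ z0 * θ x.el) = θ z0 * (θ x.el * θ z0) * θ x.el := by group
      _ = (θ z0 * θ z0) * (θ x.el * θ x.el) := by rw [hu]; group
      _ = 1 := by rw [h0, hx, mul_one]
  · calc θ z0 * θ x.el * (θ z0 * θ (ev X)) * (θ z0 * θ x.el)
        = θ z0 * (θ x.el * θ z0) * θ (ev X) * (θ z0 * θ x.el) := by group
      _ = θ z0 * (θ z0 * θ x.el) * θ (ev X) * (θ x.el * θ z0) := by rw [hu]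
      _ = (θ z0 * θ z0) * θ x.el * (θ (ev X) * θ x.el) * θ z0 := by group
      _ = (θ x.el * θ x.el) * θ (ev X) * θ z0 := by rw [hc, h0]; group
      _ = θ (ev X) * θ z0 := by rw [hx, one_mul]

theorem tau_sq_comm : τ * τ * θ (gen .h) = θ (gen .h) * (τ * τ) := by
  rcases H.t5 with h | h
  · rw [h, one_mul, mul_one]
  · rw [h]
    exact (comm_u H .h rfl).symm

/-- `h τ = τ u y`. -/
theorem swap_h : θ (gen .h) * τ = τ * (θ z0 * θ (ev y)) := by
  have h1 := tau_sq_comm H
  rw [← H.t2]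
  calc θ (gen .h) * τ = θ (gen .h) * (τ * τ) * τ⁻¹ := by group
    _ = τ * τ * θ (gen .h) * τ⁻¹ := by rw [h1]
    _ = τ * (τ * θ (gen .h) * τ⁻¹) := by group

theorem inv_h : θ (gen .h) * wEl θ τ * θ (gen .h) = (wEl θ τ)⁻¹ := by
  have hu : θ (ev y) * θ z0 = θ z0 * θ (ev y) := by rw [← map_mul, comm_word y y_all, map_mul]
  have hx : θ (ev y) * θ (ev y) = 1 := by rw [← map_mul, y_sq, map_one]
  have h0 := uu H
  have hc : θ (ev X) * θ (ev y) = θ (ev y) * θ (ev X) := by
    have h1 := ev_eq' ck_Xy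
    rw [ev_append, ev_append] at h1
    rw [← map_mul, h1, map_mul]
  refine inverts_of H (sq H .h) ?_ (swap_h H) ?_
  · calc θ z0 * θ (ev y) * (θ z0 * θ (ev y)) = θ z0 * (θ (ev y) * θ z0) * θ (ev y) := by group
      _ = (θ z0 * θ z0) * (θ (ev y) * θ (ev y)) := by rw [hu]; group
      _ = 1 := by rw [h0, hx, mul_one]
  · calc θ z0 * θ (ev y) * (θ z0 * θ (ev X)) * (θ z0 * θ (ev y))
        = θ z0 * (θ (ev y) * θ z0) * θ (ev X) * (θ z0 * θ (ev y)) := by group
      _ = θ z0 * (θ z0 * θ (ev y)) * θ (ev X) * (θ (ev y) * θ z0) := by rw [hu]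
      _ = (θ z0 * θ z0) * θ (ev y) * (θ (ev X) * θ (ev y)) * θ z0 := by group
      _ = (θ (ev y) * θ (ev y)) * θ (ev X) * θ z0 := by rw [hc, h0]; group
      _ = θ (ev X) * θ z0 := by rw [hx, one_mul]

theorem inv_u : θ z0 * wEl θ τ * θ z0 = (wEl θ τ)⁻¹ := by
  refine inverts_of H (uu H) (uu H) H.t3.symm ?_
  calc θ z0 * (θ z0 * θ (ev X)) * θ z0 = (θ z0 * θ z0) * θ (ev X) * θ z0 := by group
    _ = θ (ev X) * θ z0 := by rw [uu H, one_mul]

theorem w3 : wEl θ τ ^ 3 = 1 := by
  have h1 : (θ z0 * θ (ev X)) ^ 3 = 1 := by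
    have h := ev_eq' ck_zX
    rw [ev_pw, ev_cons, ev_nil] at h
    have h2 := congrArg θ h
    rw [map_pow, map_mul, map_one] at h2
    exact h2
  unfold wEl
  rw [conj_pow, h1, mul_one, mul_inv_cancel]

theorem aX : (θ (gen .a) * θ (ev X)) ^ 3 = 1 := by
  have h := ev_eq' ck_aX
  rw [ev_pw, ev_cons, ev_nil] at h
  have h2 := congrArg θ h
  rw [map_pow, map_mul, map_one] at h2
  exact h2

theorem wa : (θ (gen .a) * wEl θ τ) ^ 3 = 1 := by
  have h1 : θ (gen .a) * wEl θ τ = τ * (θ (gen .a) * θ (ev X)) * τ⁻¹ := by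
    have hs := swap_letter H .a rfl
    have hu := comm_u H .a rfl
    change θ (gen .a) * τ = τ * (θ z0 * θ (gen .a)) at hs
    change θ (gen .a) * θ z0 = θ z0 * θ (gen .a) at hu
    unfold wEl
    calc θ (gen .a) * (τ * (θ z0 * θ (ev X)) * τ⁻¹) = (θ (gen .a) * τ) * (θ z0 * θ (ev X)) * τ⁻¹ := by group
      _ = τ * (θ z0 * (θ (gen .a) * θ z0) * θ (ev X)) * τ⁻¹ := by rw [hs]; group
      _ = τ * ((θ z0 * θ z0) * θ (gen .a) * θ (ev X)) * τ⁻¹ := by rw [hu]; group
      _ = τ * (θ (gen .a) * θ (ev X)) * τ⁻¹ := by rw [uu H, one_mul]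
  rw [h1, conj_pow, aX H, mul_one, mul_inv_cancel]

theorem wa' : (θ (gen .a) * (wEl θ τ)⁻¹) ^ 3 = 1 := by
  have h1 : θ (gen .a) * (wEl θ τ)⁻¹ = (τ * θ z0) * (θ (gen .a) * θ (ev X)) * (τ * θ z0)⁻¹ := by
    have hs := swap_letter H .a rfl
    change θ (gen .a) * τ = τ * (θ z0 * θ (gen .a)) at hs
    rw [w_inv H, mul_inv_rev, inv_eq_of_mul_eq_one_left (uu H)]
    calc θ (gen .a) * (τ * (θ (ev X) * θ z0) * τ⁻¹) = (θ (gen .a) * τ) * (θ (ev X) * θ z0) * τ⁻¹ := by group
      _ = τ * θ z0 * (θ (gen .a) * θ (ev X)) * (θ z0 * τ⁻¹) := by rw [hs]; group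
  rw [h1, conj_pow, aX H, mul_one, mul_inv_cancel]

/-- Conjugation of `w` by `t'`. -/
theorem t_w : (τ * τ = 1 ∧ θ (ev t') * wEl θ τ * θ (ev t') = wEl θ τ) ∨
    (τ * τ = θ z0 ∧ θ (ev t') * wEl θ τ * θ (ev t') = (wEl θ τ)⁻¹) := by
  set t := θ (ev t') with ht
  set A := θ (ev (.g :: X')) with hA
  have htt : t * t = 1 := tt' H
  have hAc : τ * A * τ⁻¹ = A := A_comm H
  have huX : θ z0 * θ (ev X) = t * A * t := uX_eq H
  have h4 : τ * t * τ * t * τ * t = 1 := by
    have h := H.t4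
    rw [pow_succ, pow_succ, pow_one] at h
    rw [← h]
    simp only [mul_assoc]
    rfl
  have hti : t⁻¹ = t := inv_eq_of_mul_eq_one_left htt
  -- `τ t τ = t τ⁻¹ t`
  have h5 : τ * t * τ = t * τ⁻¹ * t := by
    calc τ * t * τ = (τ * t * τ * t * τ * t) * (t⁻¹ * τ⁻¹ * t⁻¹) := by group
      _ = t * τ⁻¹ * t := by rw [h4, one_mul, hti]
  have h6 : τ⁻¹ * t * τ⁻¹ = t * τ * t := by
    have : (τ * t * τ)⁻¹ = (t * τ⁻¹ * t)⁻¹ := by rw [h5]
    rw [mul_inv_rev, mul_inv_rev, mul_inv_rev, mul_inv_rev, inv_inv, hti] at this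
    rw [mul_assoc, this, mul_assoc]
  -- `w = t τ⁻¹ (u X) τ t`
  have h7 : wEl θ τ = t * (τ⁻¹ * (θ z0 * θ (ev X)) * τ) * t := by
    unfold wEl
    rw [huX]
    calc τ * (t * A * t) * τ⁻¹ = τ * t * A * t * τ⁻¹ := by group
      _ = τ * t * (τ * A * τ⁻¹) * t * τ⁻¹ := by rw [hAc]
      _ = (τ * t * τ) * A * (τ⁻¹ * t * τ⁻¹) := by group
      _ = t * (τ⁻¹ * (t * A * t) * τ) * t := by rw [h5, h6]; group
  have h8 : t * wEl θ τ * t = τ⁻¹ * (θ z0 * θ (ev X)) * τ := by
    rw [h7]
    calc t * (t * (τ⁻¹ * (θ z0 * θ (ev X)) * τ) * t) * t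
        = (t * t) * (τ⁻¹ * (θ z0 * θ (ev X)) * τ) * (t * t) := by group
      _ = _ := by rw [htt, one_mul, mul_one]
  rcases H.t5 with h | h
  · left
    refine ⟨h, ?_⟩
    rw [h8]
    unfold wEl
    rw [inv_eq_of_mul_eq_one_left h]
  · right
    refine ⟨h, ?_⟩
    rw [h8, w_inv H]
    have h9 : τ⁻¹ = τ * θ z0 := by
      calc τ⁻¹ = τ⁻¹ * (θ z0 * θ z0) := by rw [uu H, mul_one]
        _ = τ⁻¹ * ((τ * τ) * θ z0) := by rw [h]
        _ = τ * θ z0 := by group
    have h10 : τ = θ z0 * τ⁻¹ := by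
      rw [← h]; group
    calc τ⁻¹ * (θ z0 * θ (ev X)) * τ = (τ * θ z0) * (θ z0 * θ (ev X)) * (θ z0 * τ⁻¹) := by
          rw [← h9, ← h10]
      _ = τ * ((θ z0 * θ z0) * θ (ev X) * θ z0) * τ⁻¹ := by group
      _ = τ * (θ (ev X) * θ z0) * τ⁻¹ := by rw [uu H, one_mul]

end

/-! ### Elements inverting `w` -/

theorem conj_inv' {x w : G} (hx : x * x = 1) (h : x * w * x = w⁻¹) : x * w⁻¹ * x = w := by
  have h1 : (x * w * x)⁻¹ = (w⁻¹)⁻¹ := by rw [h]
  rw [mul_inv_rev, mul_inv_rev, inv_inv, inv_eq_of_mul_eq_one_left hx, ← mul_assoc] at h1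
  exact h1

section

variable (H : Hyp θ τ)
include H

theorem inv_f' : (θ (ev t') * θ (gen .f) * θ (ev t')) * wEl θ τ * (θ (ev t') * θ (gen .f) * θ (ev t')) =
    (wEl θ τ)⁻¹ := by
  set t := θ (ev t') with ht
  set w := wEl θ τ with hw
  have htt : t * t = 1 := tt' H
  have hf : θ (gen .f) * w * θ (gen .f) = w⁻¹ := inv_letter H .f rfl ck_Xf
  have hff : θ (gen .f) * θ (gen .f) = 1 := sq H .f
  have hf' := conj_inv' hff hf
  rcases t_w H with ⟨-, h⟩ | ⟨-, h⟩
  · have h' : t * w⁻¹ * t = w⁻¹ := by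
      have h1 : (t * w * t)⁻¹ = w⁻¹ := by rw [h]
      rw [mul_inv_rev, mul_inv_rev, inv_eq_of_mul_eq_one_left htt, ← mul_assoc] at h1
      exact h1
    calc (t * θ (gen .f) * t) * w * (t * θ (gen .f) * t) = t * (θ (gen .f) * (t * w * t) * θ (gen .f)) * t := by group
      _ = w⁻¹ := by rw [h, hf, h']
  · calc (t * θ (gen .f) * t) * w * (t * θ (gen .f) * t) = t * (θ (gen .f) * (t * w * t) * θ (gen .f)) * t := by group
      _ = w⁻¹ := by rw [h, hf', h]

theorem inv_j : θ (gen .j) * wEl θ τ * θ (gen .j) = (wEl θ τ)⁻¹ := by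
  set t := θ (ev t') with ht
  set w := wEl θ τ with hw
  have hf : θ (gen .f) * w * θ (gen .f) = w⁻¹ := inv_letter H .f rfl ck_Xf
  have hg : θ (gen .g) * w * θ (gen .g) = w⁻¹ := inv_letter H .g rfl ck_Xg
  have hff : θ (gen .f) * θ (gen .f) = 1 := sq H .f
  have hgg : θ (gen .g) * θ (gen .g) = 1 := sq H .g
  have hf' := conj_inv' hff hf
  have hg' := conj_inv' hgg hg
  have hr : θ (ev r0) * w * θ (ev r0) = w⁻¹ := by
    unfold r0
    rw [ev_cons, ev_cons, ev_one, map_mul, map_mul]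
    change θ (gen .f) * (θ (gen .g) * θ (gen .f)) * w * (θ (gen .f) * (θ (gen .g) * θ (gen .f))) = _
    calc θ (gen .f) * (θ (gen .g) * θ (gen .f)) * w * (θ (gen .f) * (θ (gen .g) * θ (gen .f)))
        = θ (gen .f) * (θ (gen .g) * (θ (gen .f) * w * θ (gen .f)) * θ (gen .g)) * θ (gen .f) := by group
      _ = w⁻¹ := by rw [hf, hg', hf]
  have hrr : θ (ev r0) * θ (ev r0) = 1 := by
    unfold r0
    rw [ev_cons, ev_cons, ev_one, map_mul, map_mul]
    change θ (gen .f) * (θ (gen .g) * θ (gen .f)) * (θ (gen .f) * (θ (gen .g) * θ (gen .f))) = _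
    calc θ (gen .f) * (θ (gen .g) * θ (gen .f)) * (θ (gen .f) * (θ (gen .g) * θ (gen .f)))
        = θ (gen .f) * (θ (gen .g) * (θ (gen .f) * θ (gen .f)) * θ (gen .g)) * θ (gen .f) := by group
      _ = 1 := by rw [hff, mul_one, hgg, mul_one, hff]
  have hr' := conj_inv' hrr hr
  have hjeq : θ (gen .j) = θ (ev r0) * (t * θ (gen .f) * t) * θ (ev r0) := by
    have h := ev_eq' ck_j
    rw [ev_append, ev_append, ev_cons, ev_append, ev_one] at h
    have h2 := congrArg θ h
    rw [map_mul, map_mul, map_mul, map_mul] at h2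
    change _ = θ (gen .j) at h2
    rw [← h2]
    change θ (ev r0) * (t * (θ (gen .f) * (t * θ (ev r0)))) = _
    group
  have hf2 := inv_f' H
  have hs : (t * θ (gen .f) * t) * (t * θ (gen .f) * t) = 1 := by
    calc (t * θ (gen .f) * t) * (t * θ (gen .f) * t) = t * (θ (gen .f) * (t * t) * θ (gen .f)) * t := by group
      _ = 1 := by rw [tt' H, mul_one, hff, mul_one, tt' H]
  have hf3 := conj_inv' hs hf2
  rw [hjeq]
  calc θ (ev r0) * (t * θ (gen .f) * t) * θ (ev r0) * w * (θ (ev r0) * (t * θ (gen .f) * t) * θ (ev r0))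
      = θ (ev r0) * ((t * θ (gen .f) * t) * (θ (ev r0) * w * θ (ev r0)) * (t * θ (gen .f) * t)) * θ (ev r0) := by group
    _ = w⁻¹ := by rw [hr, hf3, hr]

/-- `t'` centralises `w`. -/
theorem t_cent : θ (ev t') * wEl θ τ * θ (ev t') = wEl θ τ := by
  set w := wEl θ τ with hw
  have hj := inv_j H
  have hjj : θ (gen .j) * θ (gen .j) = 1 := sq H .j
  have hj' := conj_inv' hjj hj
  have hg : θ (gen .g) * w * θ (gen .g) = w⁻¹ := inv_letter H .g rfl ck_Xg
  have hgg : θ (gen .g) * θ (gen .g) = 1 := sq H .g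
  have hg' := conj_inv' hgg hg
  have hu := inv_u H
  have hu' := conj_inv' (uu H) hu
  have ht : θ (ev t') = θ (gen .j) * (θ (gen .g) * (θ z0 * θ (gen .j))) := by
    unfold t'
    rw [ev_cons, ev_cons, ev_cons, ev_one, map_mul, map_mul, map_mul]
    rfl
  have ht' : θ (ev t') = θ (gen .j) * (θ z0 * (θ (gen .g) * θ (gen .j))) := by
    rw [ht]
    have hc : θ (gen .g) * θ z0 = θ z0 * θ (gen .g) := comm_u H .g rfl
    calc θ (gen .j) * (θ (gen .g) * (θ z0 * θ (gen .j))) = θ (gen .j) * (θ (gen .g) * θ z0) * θ (gen .j) := by group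
      _ = _ := by rw [hc]; group
  nth_rw 1 [ht]
  rw [ht']
  calc θ (gen .j) * (θ (gen .g) * (θ z0 * θ (gen .j))) * w * (θ (gen .j) * (θ z0 * (θ (gen .g) * θ (gen .j))))
      = θ (gen .j) * (θ (gen .g) * (θ z0 * (θ (gen .j) * w * θ (gen .j)) * θ z0) * θ (gen .g)) * θ (gen .j) := by group
    _ = w := by rw [hj, hu', hg, hj']

/-- `τ` is an involution. -/
theorem tau_sq : τ * τ = 1 := by
  rcases t_w H with ⟨h, -⟩ | ⟨-, h⟩
  · exact h
  · exfalso
    rw [t_cent H] at h
    have h2 : wEl θ τ * wEl θ τ = 1 := by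
      nth_rw 1 [h]
      rw [inv_mul_cancel]
    have h3 := w3 H
    rw [pow_succ, pow_two, h2, one_mul] at h3
    unfold wEl at h3
    have h4 : θ z0 * θ (ev X) = 1 := by
      calc θ z0 * θ (ev X) = τ⁻¹ * (τ * (θ z0 * θ (ev X)) * τ⁻¹) * τ := by group
        _ = 1 := by rw [h3]; group
    rw [← map_mul] at h4
    exact zX_ne (H.inj (by rw [h4, map_one]))

theorem inv_gen (s : Fi23.Gen) (hs : s ≠ .a) : θ (gen s) * wEl θ τ * θ (gen s) = (wEl θ τ)⁻¹ := by
  cases s
  · exact absurd rfl hs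
  · exact inv_letter H .b rfl ck_Xb
  · exact inv_letter H .c rfl ck_Xc
  · exact inv_letter H .d rfl ck_Xd
  · exact inv_letter H .e rfl ck_Xe
  · exact inv_letter H .f rfl ck_Xf
  · exact inv_letter H .g rfl ck_Xg
  · exact inv_j H
  · exact inv_h H
  · exact inv_letter H .i rfl ck_Xi

/-- **The relations of the even part.** -/
theorem rel : Even.Rel (fun s => θ (gen s)) (wEl θ τ) where
  cox := by
    intro s t
    show (θ (gen s) * θ (gen t)) ^ _ = 1
    rw [← map_mul, ← map_pow]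
    have h : (gen s * gen t) ^ coxLabel Fi23.edges s t = 1 := Cfsg.Agent.Fischer.Fi23Final.gen_rel s t
    rw [h, map_one]
  seven := by
    show (θ (gen .a) * θ (gen .b) * θ (gen .c) * θ (gen .d) * θ (gen .e) * θ (gen .f) * θ (gen .h)) ^ 9 = 1
    rw [← map_mul, ← map_mul, ← map_mul, ← map_mul, ← map_mul, ← map_mul, ← map_pow,
      Cfsg.Agent.Fischer.Fi23Cover.e7, map_one]
  w3 := w3 H
  inv := by
    intro s hs
    show (θ (gen s) * wEl θ τ) ^ 2 = 1
    have h := inv_gen H s hs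
    rw [pow_two]
    calc θ (gen s) * wEl θ τ * (θ (gen s) * wEl θ τ) = (θ (gen s) * wEl θ τ * θ (gen s)) * wEl θ τ := by group
      _ = 1 := by rw [h, inv_mul_cancel]
  wa := wa H
  wa' := wa' H

omit H in
theorem range_le : θ.range ≤ Subgroup.closure (Set.range fun s : Fi23.Gen => θ (gen s)) := by
  rw [MonoidHom.range_eq_map, ← PresentedGroup.closure_range_of, MonoidHom.map_closure, Subgroup.closure_le]
  rintro _ ⟨_, ⟨s, rfl⟩, rfl⟩
  exact Subgroup.subset_closure ⟨s, rfl⟩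

/-- `w⁻¹ a w = τ p τ`. -/
theorem w_a_w : (wEl θ τ)⁻¹ * θ (gen .a) * wEl θ τ = τ * θ (ev p) * τ := by
  have hs := swap_letter H .a rfl
  change θ (gen .a) * τ = τ * (θ z0 * θ (gen .a)) at hs
  have hti : τ⁻¹ = τ := inv_eq_of_mul_eq_one_left (tau_sq H)
  have hp : θ (ev p) = θ (ev X) * (θ (gen .a) * (θ z0 * θ (ev X))) := by
    unfold p
    rw [ev_append, ev_cons, ev_cons, map_mul, map_mul, map_mul]
    rfl
  rw [w_inv H, hp]
  unfold wEl
  calc τ * (θ (ev X) * θ z0) * τ⁻¹ * θ (gen .a) * (τ * (θ z0 * θ (ev X)) * τ⁻¹)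
      = τ * (θ (ev X) * θ z0) * τ⁻¹ * (θ (gen .a) * τ) * (θ z0 * θ (ev X)) * τ⁻¹ := by group
    _ = τ * θ (ev X) * (θ z0 * θ z0) * θ (gen .a) * (θ z0 * θ (ev X)) * τ⁻¹ := by rw [hs]; group
    _ = τ * (θ (ev X) * (θ (gen .a) * (θ z0 * θ (ev X)))) * τ := by rw [uu H, hti]; group

/-- `p τ p = τ p τ`. -/
theorem p_braid : θ (ev p) * τ * θ (ev p) = τ * θ (ev p) * τ := by
  set t := θ (ev t') with ht
  have hti : τ⁻¹ = τ := inv_eq_of_mul_eq_one_left (tau_sq H)
  have htt : t * t = 1 := tt' H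
  have he := e0_comm H
  set e := θ (ev e0) with hee
  have he1 : τ * e = e * τ := by
    calc τ * e = (τ * e * τ⁻¹) * τ := by group
      _ = e * τ := by rw [he]
  have he2 : e⁻¹ * τ = τ * e⁻¹ := by
    calc e⁻¹ * τ = e⁻¹ * (τ * e) * e⁻¹ := by group
      _ = τ * e⁻¹ := by rw [he1]; group
  have hp : θ (ev p) = e * t * e⁻¹ := by
    have h := ev_eq' ck_p
    rw [ev_append, ev_append, ev_reverse] at h
    rw [← h, map_mul, map_mul, map_inv, ← mul_assoc]
  have h4 : t * τ * t = τ * t * τ := by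
    have h := H.t4
    rw [pow_succ, pow_succ, pow_one] at h
    have h5 : τ * t * τ * t * τ * t = 1 := by
      rw [← h]
      simp only [mul_assoc]
      rfl
    calc t * τ * t = (τ * t * τ)⁻¹⁻¹ * (τ * t * τ)⁻¹ * (t * τ * t) := by group
      _ = (τ * t * τ) * (τ⁻¹ * t⁻¹ * τ⁻¹) * (t * τ * t) := by group
      _ = (τ * t * τ) * (τ * t * τ) * (t * τ * t) := by rw [hti, inv_eq_of_mul_eq_one_left htt]
      _ = (τ * t * τ) * (τ * t * τ * t * τ * t) := by group
      _ = τ * t * τ := by rw [h5, mul_one]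
  rw [hp]
  calc e * t * e⁻¹ * τ * (e * t * e⁻¹) = e * t * (e⁻¹ * τ) * e * t * e⁻¹ := by group
    _ = e * (t * τ * t) * e⁻¹ := by rw [he2]; group
    _ = (e * τ) * t * (τ * e⁻¹) := by rw [h4]; group
    _ = τ * (e * t * e⁻¹) * τ := by rw [← he1, ← he2]; group

/-- **`τ` is in the group generated by the images.** -/
theorem tau_mem : τ ∈ Subgroup.closure (Set.range (fun s : Fi23.Gen => θ (gen s)) ∪ {wEl θ τ}) := by
  set C := Subgroup.closure (Set.range (fun s : Fi23.Gen => θ (gen s)) ∪ {wEl θ τ}) with hC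
  have hle : θ.range ≤ C := range_le.trans (Subgroup.closure_mono Set.subset_union_left)
  have hp : θ (ev p) ∈ C := hle ⟨_, rfl⟩
  have ha : θ (gen .a) ∈ C := hle ⟨_, rfl⟩
  have hw : wEl θ τ ∈ C := Subgroup.subset_closure (Or.inr rfl)
  have hpp : θ (ev p) * θ (ev p) = 1 := by
    have h := ev_eq' ck_p
    rw [ev_append, ev_append, ev_reverse] at h
    rw [← map_mul, ← h]
    have h2 : ev e0 * (ev t' * (ev e0)⁻¹) * (ev e0 * (ev t' * (ev e0)⁻¹)) = ev e0 * (ev t' * ev t') * (ev e0)⁻¹ := by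
      group
    rw [h2, tt, mul_one, mul_inv_cancel, map_one]
  have key : τ = θ (ev p) * ((wEl θ τ)⁻¹ * θ (gen .a) * wEl θ τ) * θ (ev p) := by
    rw [w_a_w H, ← p_braid H]
    calc τ = (θ (ev p) * θ (ev p)) * τ * (θ (ev p) * θ (ev p)) := by rw [hpp, one_mul, mul_one]
      _ = _ := by group
  rw [key]
  exact C.mul_mem (C.mul_mem hp (C.mul_mem (C.mul_mem (C.inv_mem hw) ha) hw)) hp

/-- **The results for the extension.** -/
theorem main : τ * τ = 1 ∧ Even.Rel (fun s => θ (gen s)) (τ * (θ z0 * θ (ev X)) * τ⁻¹) ∧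
    τ ∈ Subgroup.closure (Set.range (fun s : Fi23.Gen => θ (gen s)) ∪ {τ * (θ z0 * θ (ev X)) * τ⁻¹}) :=
  ⟨tau_sq H, rel H, tau_mem H⟩

end

end Cfsg.Agent.R08.X5Hand
end

-- part: R08/X5Main
section
/-!
From an embedding of `Fi23` to the relations of the even part of `Fi24`.
-/

set_option autoImplicit false
set_option linter.constructorNameAsVariable false
set_option maxRecDepth 100000

namespace Cfsg.Agent.R08.X5Main

open Cfsg Cfsg.Spor Cfsg.Agent.Fischer.Fi23Class Cfsg.Agent.Fischer.Fi23Cover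
  Cfsg.Agent.Fischer.Fi23Z Cfsg.Agent.Fischer.Fi23Orb Cfsg.Agent.Fischer.Fi23Hom
  Cfsg.Agent.R08.X4Rel Cfsg.Agent.R08.X4Pres Cfsg.Agent.R08.X4Tau Cfsg.Agent.R08.X4Kappa
  Cfsg.Agent.R08.X4Main

universe u

variable {G : Type u} [Group G] {θ : Fi23 →* G} {u : G}

/-- The output of X4 and X5. -/
structure Tau (θ : Fi23 →* G) (u τ w : G) : Prop where
  comm : τ * u = u * τ
  sq : τ * τ = 1
  out : ∀ k : K, θ k ≠ τ
  rel : Even.Rel (fun s => θ (gen s)) w
  mem : τ ∈ Subgroup.closure (Set.range (fun s => θ (gen s)) ∪ {w})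
  swap : ∀ k : K, IsConj (kgen .a) k → ∃ k' : K, IsConj (kgen .a) k' ∧ τ * θ k' * τ⁻¹ = u * θ k

theorem hyp_of (E : Emb θ u) {τ : G} (h : Outer θ u τ) : X5Hand.Hyp θ τ where
  inj := E.inj
  t1 := by
    rw [E.z]
    intro s hs hs'
    cases s
    · exact h.hs .a (by decide)
    · exact h.hs .b (by decide)
    · exact h.hs .c (by decide)
    · exact h.hs .d (by decide)
    · exact h.hs .e (by decide)
    · exact h.hs .f (by decide)
    · exact h.hs .g (by decide)
    · exact absurd rfl hs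
    · exact absurd rfl hs'
    · exact h.hs .i (by decide)
  t2 := by rw [E.z]; exact h.hh
  t3 := by rw [E.z]; exact h.comm
  t4 := h.braid
  t5 := by rw [E.z]; exact h.sq

theorem exists_tau {γ : K ≃* K} (hγ : Gam γ) (E : Emb θ u) : ∃ τ w : G, Tau θ u τ w := by
  obtain ⟨τ, h1, h2, _, h4⟩ := exists_outer (X4LemV.lemV LemmaVInst.lemmaV) X4LemV.char
    (fun k hk => X4Cent.main hk) hγ E
  obtain ⟨h5, h6, h7⟩ := X5Hand.main (hyp_of E h1)
  exact ⟨τ, _, h1.comm, h5, h2, h6, h7, h4⟩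

theorem exists_gam : ∃ γ : K ≃* K, Gam γ := by
  obtain ⟨γ, Y', hY, h1, h2, h3, h4⟩ := X4Gamma.exists_gamma'
  have hYY : Y' = Y := Subtype.ext hY
  subst hYY
  exact ⟨γ, h1, h2, h3, h4⟩

/-- **X4 and X5.** -/
theorem main (E : Emb θ u) : ∃ τ w : G, Tau θ u τ w := by
  obtain ⟨γ, hγ⟩ := exists_gam
  exact exists_tau hγ E

end Cfsg.Agent.R08.X5Main
end

-- part: R08/X0Fin
section
/-!
Theorem X: the end. From the embedding `θ` of `Fi23` and the elements `τ`, `w` to `Fi24'`.
-/

set_option autoImplicit false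
set_option linter.constructorNameAsVariable false

namespace Cfsg.Agent.R08.X0Fin

open Cfsg Cfsg.Spor Cfsg.Agent.Fischer Cfsg.Agent.R01.Lifts
open Cfsg.Agent.R08.LiftCls
open Cfsg.Agent.R08.XTheta (Out)
open Cfsg.Agent.R08.X4Tau (Emb)
open Cfsg.Agent.R08.X5Main (Tau)
open Cfsg.Agent.R08.XBridge (mem_L exists_of_mem)
open Cfsg.Agent.R01.AlphaFi23 (t)
open Cfsg.Agent.Fischer.Fi23Hom (gen)
open Cfsg.Agent.Fischer.Fi23Class (K)
open Cfsg.Agent.Fischer.Fi23Z (z0)
open Cfsg.Agent.Fischer.Fi23Cover (kgen)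

universe v

/-! ### The embedding -/

variable {G : Type v} [Group G] {u : G} {L' : Subgroup G} {u' : L'} {π : L' →* Spor.Fi22}
  {D : Set L'} {ε : L' ≃* K} {θ : Fi23 →* G}

/-- The spider relation. -/
theorem spider (θ : Fi23 →* G) : (θ (gen .d) * θ (gen .c) * θ (gen .b) * θ (gen .d) * θ (gen .e) *
    θ (gen .f) * θ (gen .d) * θ (gen .h) * θ (gen .i)) ^ 10 = 1 := by
  have h1 : ((t .d * t .c * t .b * t .d * t .e * t .f * t .d * t .h * t .i) ^ 10 : K) = 1 :=
    FiTwentyThree.hyp.spider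
  have h2 := congrArg (fun k : K => θ (k : Fi23)) h1
  simp only [Subgroup.coe_pow, Subgroup.coe_mul, map_pow, map_mul, Subgroup.coe_one, map_one] at h2
  exact h2

/-- The central involution as a word. -/
theorem θ_z0 (θ : Fi23 →* G) : (θ (gen .b) * θ (gen .c) * θ (gen .d) * θ (gen .e) * θ (gen .f) *
    θ (gen .g) * θ (gen .h)) ^ 9 = θ z0 := by
  have h1 : ((t .b * t .c * t .d * t .e * t .f * t .g * t .h) ^ 9 : K) = FiTwentyThree.zK :=
    R01.AlphaFi23.zrels.e7b
  have h2 := congrArg (fun k : K => θ (k : Fi23)) h1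
  simp only [Subgroup.coe_pow, Subgroup.coe_mul, map_pow, map_mul] at h2
  exact h2

/-- Inverting elements. -/
theorem inv_odd {w a b c : G} (ha : a * w * a⁻¹ = w⁻¹) (hb : b * w * b⁻¹ = w⁻¹)
    (hc : c * w * c⁻¹ = w⁻¹) : a * b * c * w * (a * b * c)⁻¹ = w⁻¹ := by
  have hb' : b * w⁻¹ * b⁻¹ = w := by
    have := congrArg (·⁻¹) hb
    simpa [mul_assoc] using this
  calc a * b * c * w * (a * b * c)⁻¹ = a * (b * (c * w * c⁻¹) * b⁻¹) * a⁻¹ := by group
    _ = w⁻¹ := by rw [hc, hb', ha]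

theorem rel_ne {x : Fi23.Gen → G} {w : G} (h : Even.Rel x w) (ha : x .a ≠ 1) (hw : w * w = 1) :
    False := by
  have h3 := h.w3
  have h1 : w = 1 := by
    rw [pow_succ, pow_two, hw, one_mul] at h3
    exact h3
  have h2 := h.wa
  rw [h1, mul_one, pow_succ, pow_two, h.sq, one_mul] at h2
  exact ha h2

theorem u_inv {u w : G} (hrel : Even.Rel (fun s => θ (gen s)) w) (hu : θ z0 = u) :
    u * w * u⁻¹ = w⁻¹ := by
  have h1 : ∀ s : Fi23.Gen, s ≠ .a → θ (gen s) * w * (θ (gen s))⁻¹ = w⁻¹ := by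
    intro s hs
    have h2 := hrel.inv s hs
    have h3 := hrel.inv_x s
    rw [h3]
    rw [pow_two] at h2
    have h4 : (θ (gen s) * w * θ (gen s)) * w = 1 := by
      rw [← h2]; group
    exact eq_inv_of_mul_eq_one_left h4
  have hb := h1 .b (by decide)
  have hc := h1 .c (by decide)
  have hd := h1 .d (by decide)
  have he := h1 .e (by decide)
  have hf := h1 .f (by decide)
  have hg := h1 .g (by decide)
  have hh := h1 .h (by decide)
  have h7 := inv_odd (inv_odd (inv_odd hb hc hd) he hf) hg hh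
  rw [← hu, ← θ_z0 θ]
  set p := θ (gen .b) * θ (gen .c) * θ (gen .d) * θ (gen .e) * θ (gen .f) * θ (gen .g) *
    θ (gen .h) with hp
  have h9 := inv_odd (inv_odd (inv_odd (inv_odd h7 h7 h7) h7 h7) h7 h7) h7 h7
  have e9 : p ^ 9 = p * p * p * p * p * p * p * p * p := by
    simp only [pow_succ, pow_zero, one_mul]
  rw [e9]
  exact h9

/-- **The end of Theorem X.** -/
theorem finish (h : Out u u' π D ε θ) {τ w : G} (hτ : Tau θ u τ w) :
    ∃ H : Subgroup G, Subgroup.centralizer ({u} : Set G) ≤ H ∧ Spor.IsoFi24' H ∧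
      ∀ l : L', π l ∈ AutT.T → ∃ g ∈ H, g * u * g⁻¹ = l := by
  have E := XBridge.emb h
  have hxH : ∀ s, θ (gen s) ∈ Subgroup.closure (Set.range (fun s => θ (gen s)) ∪ {w}) :=
    fun s => Subgroup.subset_closure (Or.inl ⟨s, rfl⟩)
  have hθ : ∀ y : Fi23, θ y ∈ Subgroup.closure (Set.range (fun s => θ (gen s)) ∪ {w}) := by
    have h1 : (⊤ : Subgroup Fi23) ≤
        (Subgroup.closure (Set.range (fun s => θ (gen s)) ∪ {w})).comap θ := by
      rw [← show Subgroup.closure (Set.range (fun s => (gen s : Fi23))) = ⊤ from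
        PresentedGroup.closure_range_of _, Subgroup.closure_le]
      rintro _ ⟨s, rfl⟩
      exact hxH s
    intro y
    exact h1 (Subgroup.mem_top y)
  have hC : Subgroup.centralizer ({u} : Set G) ≤
      Subgroup.closure (Set.range (fun s => θ (gen s)) ∪ {w}) :=
    XBridge.centralizer_le h (fun k => hθ k) hτ.mem hτ.comm hτ.out
  have ha1 : θ (gen .a) ≠ 1 := by
    intro h1
    exact FiTwentyThree.ne_one_D (FiTwentyThree.gen_mem_D .a) (h.inj (by rw [h1, map_one]))
  have h17 := TThree.w17_three TLabel3.label3 hτ.rel (spider θ) (by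
    intro p hp hpw
    have h1 : ∀ y : Fi23, p * θ y = θ y * p := by
      have h2 : (⊤ : Subgroup Fi23) ≤ (Subgroup.centralizer ({p} : Set G)).comap θ := by
        rw [← show Subgroup.closure (Set.range (fun s => (gen s : Fi23))) = ⊤ from
          PresentedGroup.closure_range_of _, Subgroup.closure_le]
        rintro _ ⟨s, rfl⟩
        exact Subgroup.mem_centralizer_singleton_iff.2 (hp s).symm.eq
      intro y
      exact (Subgroup.mem_centralizer_singleton_iff.1 (h2 (Subgroup.mem_top y))).symm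
    rcases E.cent p (fun k => h1 k) with h2 | h2
    · exact h2
    · exfalso
      have h3 := u_inv hτ.rel h.θz
      rw [h2] at hpw
      have h4 : u * w * u⁻¹ = w := by rw [hpw.eq, mul_inv_cancel_right]
      rw [h4] at h3
      exact rel_ne hτ.rel ha1 (by nth_rewrite 1 [h3]; exact inv_mul_cancel w))
  obtain ⟨f⟩ := TMain.nonempty_equiv FiTwentyFour.isFi24' hτ.rel h17 ha1
  refine ⟨_, hC, ⟨f.symm⟩, ?_⟩
  -- the conjugates of `u`
  have hconj : ∀ d ∈ D, ∃ g ∈ Subgroup.closure (Set.range (fun s => θ (gen s)) ∪ {w}),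
      g * u * g⁻¹ = (d : G) := by
    intro d hd
    have h1 : IsConj z0 ((ε d : K) : Fi23) := by
      have h2 : IsConj (gen .a) ((ε d : K) : Fi23) := by
        obtain ⟨c, hc⟩ := isConj_iff.1 ((h.eD d).1 hd)
        exact isConj_iff.2 ⟨c, congrArg Subtype.val hc⟩
      exact (FiTwentyThree.gen_mem_D .a).trans h2
    obtain ⟨y, hy⟩ := isConj_iff.1 h1
    refine ⟨θ y, hθ y, ?_⟩
    rw [← h.θz, ← map_inv, ← map_mul, ← map_mul, hy, h.θe]
  intro l hl
  rcases h.cls.cover l hl with h1 | h1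
  · exact hconj l h1
  · obtain ⟨b, hb, hsw⟩ := h.ctx.swap
    obtain ⟨d', hd', hbd⟩ := hsw _ h1
    obtain ⟨g, hg, hgd⟩ := hconj d' hd'
    rw [h.coe_u] at hb hbd
    have hbl : b * l * b⁻¹ = d' := by
      have h2 : ((l * u' : L') : G) = u * l := by
        rw [Subgroup.coe_mul, h.coe_u]
        exact h.hyp.le l l.2
      rw [h2] at hbd
      have h3 : u * (b * l * b⁻¹) = u * d' := by
        rw [← hbd]
        calc u * (b * l * b⁻¹) = (u * b) * l * b⁻¹ := by group
          _ = (b * u) * l * b⁻¹ := by rw [hb]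
          _ = b * (u * l) * b⁻¹ := by group
      exact mul_left_cancel h3
    refine ⟨b⁻¹ * g, Subgroup.mul_mem _ (Subgroup.inv_mem _ (hC (Subgroup.mem_centralizer_singleton_iff.2 hb))) hg, ?_⟩
    calc b⁻¹ * g * u * (b⁻¹ * g)⁻¹ = b⁻¹ * (g * u * g⁻¹) * b := by group
      _ = b⁻¹ * (b * l * b⁻¹) * b := by rw [hgd, hbl]
      _ = l := by group

end Cfsg.Agent.R08.X0Fin
end

private theorem dce_b85168bb4480 : _root_.True := by
  try have : _root_.True := by simp only [_root_.Cfsg.Agent.R08.X4Rel.Lt.el.eq_6]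
  try have : _root_.True := by simp only [_root_.Cfsg.Agent.R08.X4Rel.Lt.el.eq_3]
  try have : _root_.True := by simp only [_root_.Cfsg.Agent.R08.X4Rel.Lt.el.eq_2]
  try have : _root_.True := by simp only [_root_.Cfsg.Agent.R08.X4Rel.Lt.el.eq_4]
  try have : _root_.True := by simp only [_root_.Cfsg.Agent.R08.X4Rel.Lt.el.eq_8]
  try have : _root_.True := by simp only [_root_.Cfsg.Agent.R08.X4Rel.Lt.el.eq_11]
  try have : _root_.True := by simp only [_root_.Cfsg.Agent.R08.X4Rel.Lt.el.eq_1]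
  try have : _root_.True := by simp only [_root_.Cfsg.Agent.R08.X4Rel.Lt.el.eq_10]
  try have : _root_.True := by simp only [_root_.Cfsg.Agent.Fischer.Cert.bite.eq_1]
  try have : _root_.True := by simp only [_root_.Cfsg.Agent.R08.X4Rel.Lt.el.eq_7]
  try have : _root_.True := by simp only [_root_.Cfsg.Agent.R08.X4Rel.Lt.el.eq_9]
  try have : _root_.True := by simp only [_root_.Cfsg.Agent.R08.X4Rel.Lt.el.eq_5]
  exact _root_.True.intro
end

-- part: R08/Seven_mg
section
prune_inst 0x40000000000000000000000000000000000000000000000000000000000000040000000004000000000000000000000000000028000000000000000000000000000000000000000000000000000000000000000000000000000000000000000000000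
set_option linter.all false
open scoped Cfsg.Agent.FastGrp

-- part: R08/Seven
section
/-!
From the centraliser of a four-group to the double cover of `Fi22`: `H` is a finite group with a central involution `t`,
`r` another involution whose centraliser `C` is perfect with `C / ⟨t, r⟩` isomorphic to `PSU(6,2)`. If an involution `y`
conjugate to an element swapping `r` and `r t` satisfies the hypothesis of the Thompson transfer lemma, then there is a
subgroup `L` of index two, quasisimple with `L / ⟨t⟩` isomorphic to `Fi22` (by the recognition theorem of `Fi22`).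
-/

set_option autoImplicit false

namespace Cfsg.Agent.R08.Seven

open Cfsg

universe u v

/-- The recognition theorem of `Fi22` (statement S1713). -/
def Rec.{w} : Prop := ∀ (G : Type w) [Group G] [Finite G] (d : G), orderOf d = 2 →
  IsQuasisimple (Subgroup.centralizer ({d} : Set G)) →
  ∀ [((Subgroup.zpowers d).subgroupOf (Subgroup.centralizer ({d} : Set G))).Normal]
    (K : Type) [Field K] [Fintype K], Fintype.card K = 4 →
    Nonempty ((Subgroup.centralizer ({d} : Set G)) ⧸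
      (Subgroup.zpowers d).subgroupOf (Subgroup.centralizer ({d} : Set G)) ≃* PSU 6 K 2) →
    (∃ g : G, g * d * g⁻¹ ∈ Subgroup.centralizer ({d} : Set G) ∧ g * d * g⁻¹ ≠ d) →
    Spor.IsoFi22 G

/-- The recognition theorem, strong form: `d` is mapped to an element of `T`. -/
def RecT.{w} (T : Set Spor.Fi22) : Prop := ∀ (G : Type w) [Group G] [Finite G] (d : G),
  orderOf d = 2 →
  IsQuasisimple (Subgroup.centralizer ({d} : Set G)) →
  ∀ [((Subgroup.zpowers d).subgroupOf (Subgroup.centralizer ({d} : Set G))).Normal]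
    (K : Type) [Field K] [Fintype K], Fintype.card K = 4 →
    Nonempty ((Subgroup.centralizer ({d} : Set G)) ⧸
      (Subgroup.zpowers d).subgroupOf (Subgroup.centralizer ({d} : Set G)) ≃* PSU 6 K 2) →
    (∃ g : G, g * d * g⁻¹ ∈ Subgroup.centralizer ({d} : Set G) ∧ g * d * g⁻¹ ≠ d) →
    ∃ f : G ≃* Spor.Fi22, f d ∈ T

theorem recT_univ.{w} (h : Rec.{w}) : RecT.{w} Set.univ := by
  intro G _ _ d hd hq _ K _ _ hK he hn
  obtain ⟨f⟩ := h G d hd hq K hK he hn
  exact ⟨f, trivial⟩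

/-- A perfect central extension of a simple group is quasisimple, with the kernel as centre. -/
theorem center_eq_ker {C U : Type*} [Group C] [Group U] (π : C →* U) (hs : Function.Surjective π)
    (hk : π.ker ≤ Subgroup.center C) (hperf : commutator C = ⊤) (hU : IsSimpleGroup U) :
    Subgroup.center C = π.ker := by
  apply le_antisymm _ hk
  intro x hx
  have h1 : π x ∈ Subgroup.center U := by
    rw [Subgroup.mem_center_iff]
    intro g
    obtain ⟨c, rfl⟩ := hs g
    rw [← map_mul, ← map_mul, Subgroup.mem_center_iff.1 hx c]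
  have h2 : Subgroup.center U = ⊥ := by
    rcases hU.eq_bot_or_eq_top_of_normal (Subgroup.center U) inferInstance with h | h
    · exact h
    · exfalso
      have h3 : commutator U = ⊤ := by
        rw [eq_top_iff]
        intro y _
        obtain ⟨c, rfl⟩ := hs y
        have hc : c ∈ commutator C := by rw [hperf]; trivial
        have h4 : Subgroup.map π (commutator C) ≤ commutator U := by
          rw [commutator_def, commutator_def, Subgroup.map_commutator]
          exact Subgroup.commutator_mono le_top le_top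
        exact h4 ⟨c, hc, rfl⟩
      have h4 : commutator U = ⊥ := (commutator_eq_bot_iff_center_eq_top U).2 h
      rw [h3] at h4
      exact absurd h4.symm bot_ne_top
  rw [h2, Subgroup.mem_bot] at h1
  exact h1

theorem quasisimple_of_surj {C U : Type*} [Group C] [Group U] (π : C →* U)
    (hs : Function.Surjective π) (hk : π.ker ≤ Subgroup.center C) (hperf : commutator C = ⊤)
    (hU : IsSimpleGroup U) : IsQuasisimple C := by
  refine ⟨Group.isPerfect_def.2 hperf, ?_⟩
  have hc := center_eq_ker π hs hk hperf hU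
  have e1 : C ⧸ Subgroup.center C ≃* C ⧸ π.ker := QuotientGroup.quotientMulEquivOfEq hc
  have e := e1.trans (QuotientGroup.quotientKerEquivOfSurjective π hs)
  have hn : Nontrivial (C ⧸ Subgroup.center C) := e.toEquiv.nontrivial
  exact IsSimpleGroup.isSimpleGroup_of_surjective e.symm.toMonoidHom e.symm.surjective

/-- The perfect subgroups are contained in the subgroups of index two. -/
theorem le_of_perfect {H : Type*} [Group H] (M : Subgroup H) (hM : M.index = 2) (C : Subgroup H)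
    (hC : commutator C = ⊤) : C ≤ M := by
  have hN : M.Normal := Subgroup.normal_of_index_eq_two hM
  have hsq : ∀ x : H, x * x ∈ M := fun x => Subgroup.mul_self_mem_of_index_two hM x
  have hab : ∀ x y : H, x * y * x⁻¹ * y⁻¹ ∈ M := by
    intro x y
    have h1 : x * y * x⁻¹ * y⁻¹ = (x * y * (x * y)) * (y⁻¹ * (x⁻¹ * x⁻¹) * y⁻¹⁻¹) * (y⁻¹ * y⁻¹) := by
      group
    rw [h1]
    exact M.mul_mem (M.mul_mem (hsq _) (hN.conj_mem _ (hsq _) _)) (hsq _)
  intro c hc
  have h1 : (⟨c, hc⟩ : C) ∈ commutator C := by rw [hC]; trivial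
  have h2 : commutator C ≤ M.subgroupOf C := by
    rw [commutator_def, Subgroup.commutator_le]
    intro x _ y _
    rw [Subgroup.mem_subgroupOf, commutatorElement_def]
    exact hab x y
  exact h2 h1

/-- The hypotheses. -/
structure Hyp {H : Type u} [Group H] (K : Type) [Field K] [Fintype K] (t r y : H)
    (π : Subgroup.centralizer ({r} : Set H) →* PSU 6 K 2) : Prop where
  card : Fintype.card K = 4
  tc : ∀ h : H, h * t = t * h
  tt : t * t = 1
  t1 : t ≠ 1
  rr : r * r = 1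
  r1 : r ≠ 1
  rt : r ≠ t
  surj : Function.Surjective π
  ker : ∀ c : Subgroup.centralizer ({r} : Set H), π c = 1 ↔ (c : H) = 1 ∨ (c : H) = t ∨
    (c : H) = r ∨ (c : H) = t * r
  perf : commutator (Subgroup.centralizer ({r} : Set H)) = ⊤
  /-- `y` is conjugate to an element swapping `r` and `t r` -/
  swap : ∃ h : H, (h * y * h⁻¹) * r * (h * y * h⁻¹)⁻¹ = t * r
  /-- the involution `r` is not isolated modulo `t` -/
  nwc : ∃ h : H, h * r * h⁻¹ * r = r * (h * r * h⁻¹) ∧ h * r * h⁻¹ ≠ r ∧ h * r * h⁻¹ ≠ t * r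

variable {H : Type u} [Group H] {K : Type} [Field K] [Fintype K] {t r y : H}
  {π : Subgroup.centralizer ({r} : Set H) →* PSU 6 K 2}

namespace Hyp

theorem mem_c {c : H} : c ∈ Subgroup.centralizer ({r} : Set H) ↔ c * r = r * c :=
  Subgroup.mem_centralizer_singleton_iff

theorem t_mem (h : Hyp K t r y π) : t ∈ Subgroup.centralizer ({r} : Set H) :=
  mem_c.2 (h.tc r).symm

theorem r_mem : r ∈ Subgroup.centralizer ({r} : Set H) := mem_c.2 rfl

/-- The element swapping `r` and `t r` also acts so by its inverse. -/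
theorem swap_inv (h : Hyp K t r y π) {s : H} (hs : s * r * s⁻¹ = t * r) :
    s⁻¹ * r * s = t * r := by
  have h1 : t * (s⁻¹ * r * s) = r := by
    calc t * (s⁻¹ * r * s) = s⁻¹ * (t * r) * s := by
          calc t * (s⁻¹ * r * s) = (t * s⁻¹) * r * s := by group
            _ = (s⁻¹ * t) * r * s := by rw [h.tc]
            _ = _ := by group
      _ = s⁻¹ * (s * r * s⁻¹) * s := by rw [hs]
      _ = r := by group
  calc s⁻¹ * r * s = (t * t) * (s⁻¹ * r * s) := by rw [h.tt, one_mul]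
    _ = t * (t * (s⁻¹ * r * s)) := by group
    _ = t * r := by rw [h1]

theorem orderOf_t (h : Hyp K t r y π) : orderOf t = 2 :=
  orderOf_eq_prime (by rw [pow_two, h.tt]) h.t1

theorem zpowers_t (h : Hyp K t r y π) {x : H} : x ∈ Subgroup.zpowers t ↔ x = 1 ∨ x = t := by
  constructor
  · intro hx
    obtain ⟨k, rfl⟩ := Subgroup.mem_zpowers_iff.1 hx
    rcases Int.even_or_odd k with ⟨m, rfl⟩ | ⟨m, rfl⟩
    · left
      rw [← two_mul, zpow_mul, zpow_ofNat, pow_two, h.tt, one_zpow]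
    · right
      rw [zpow_add, zpow_mul, zpow_ofNat, pow_two, h.tt, one_zpow, one_mul, zpow_one]
  · rintro (rfl | rfl)
    · exact one_mem _
    · exact Subgroup.mem_zpowers _

end Hyp

/-- The recognition theorem applied to `L / ⟨t⟩`. -/
theorem exists_fi22T {T : Set Spor.Fi22} (hrec : RecT.{u} T) [Finite H] (h : Hyp K t r y π)
    (L : Subgroup H) (hL : L.index = 2) (hy : y ∉ L) :
    ∃ φ : L →* Spor.Fi22, Function.Surjective φ ∧
      (∀ x : L, φ x = 1 ↔ (x : H) = 1 ∨ (x : H) = t) ∧ ∀ hr : r ∈ L, φ ⟨r, hr⟩ ∈ T := by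
  classical
  have hLn : L.Normal := Subgroup.normal_of_index_eq_two hL
  have hCL : Subgroup.centralizer ({r} : Set H) ≤ L := le_of_perfect L hL _ h.perf
  have htL : t ∈ L := hCL h.t_mem
  have hrL : r ∈ L := hCL Hyp.r_mem
  -- an element swapping `r` and `t r`, outside `L`
  obtain ⟨g0, hs⟩ := h.swap
  set s := g0 * y * g0⁻¹ with hsdef
  have hsL : s ∉ L := by
    intro h1
    apply hy
    have h2 := hLn.conj_mem _ h1 g0⁻¹
    have h3 : g0⁻¹ * s * g0⁻¹⁻¹ = y := by rw [hsdef]; group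
    rwa [h3] at h2
  -- the quotient
  let N : Subgroup L := (Subgroup.zpowers t).subgroupOf L
  have hmemN : ∀ x : L, x ∈ N ↔ (x : H) = 1 ∨ (x : H) = t := fun x => by
    rw [Subgroup.mem_subgroupOf, h.zpowers_t]
  have hNn : N.Normal := by
    constructor
    intro n hn g
    rw [hmemN] at hn ⊢
    rcases hn with h1 | h1
    · left
      rw [Subgroup.coe_mul, Subgroup.coe_mul, h1, mul_one, Subgroup.coe_inv, mul_inv_cancel]
    · right
      rw [Subgroup.coe_mul, Subgroup.coe_mul, h1, h.tc, Subgroup.coe_inv, mul_inv_cancel_right]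
  let q : L →* L ⧸ N := QuotientGroup.mk' N
  have hq : Function.Surjective q := QuotientGroup.mk'_surjective N
  have hq1 : ∀ x : L, q x = 1 ↔ (x : H) = 1 ∨ (x : H) = t := fun x => by
    rw [← hmemN]
    exact QuotientGroup.eq_one_iff x
  have hqeq : ∀ x x' : L, q x = q x' ↔ (x : H) = x' ∨ (x : H) = t * x' := by
    intro x x'
    rw [← mul_inv_eq_one, ← map_inv, ← map_mul, hq1, Subgroup.coe_mul, Subgroup.coe_inv,
      mul_inv_eq_one, mul_inv_eq_iff_eq_mul]
  let d : L ⧸ N := q ⟨r, hrL⟩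
  have hdd : orderOf d = 2 := by
    apply orderOf_eq_prime
    · rw [pow_two, ← map_mul, hq1]
      left
      exact h.rr
    · intro h1
      rcases (hq1 _).1 h1 with h2 | h2
      · exact h.r1 h2
      · exact h.rt h2
  -- the centraliser of `d`
  have hcent : ∀ x : L, q x ∈ Subgroup.centralizer ({d} : Set (L ⧸ N)) ↔
      (x : H) ∈ Subgroup.centralizer ({r} : Set H) := by
    intro x
    rw [Subgroup.mem_centralizer_singleton_iff, Hyp.mem_c, ← map_mul, ← map_mul, hqeq]
    constructor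
    · rintro (h1 | h1)
      · exact h1
      · exfalso
        have h1' : (x : H) * r = t * (r * x) := h1
        have h2 : (x : H) * r * (x : H)⁻¹ = t * r := by
          rw [h1']; group
        have h3 : s⁻¹ * x ∈ Subgroup.centralizer ({r} : Set H) := by
          rw [Hyp.mem_c]
          have h4 : (s⁻¹ * x) * r * (s⁻¹ * x)⁻¹ = r := by
            calc (s⁻¹ * x) * r * (s⁻¹ * x)⁻¹ = s⁻¹ * ((x : H) * r * (x : H)⁻¹) * s := by group
              _ = s⁻¹ * (t * r) * s := by rw [h2]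
              _ = s⁻¹ * (s * r * s⁻¹) * s := by rw [hs]
              _ = r := by group
          exact mul_inv_eq_iff_eq_mul.1 h4
        apply hsL
        have h5 := L.mul_mem x.2 (L.inv_mem (hCL h3))
        have h6 : (x : H) * (s⁻¹ * x)⁻¹ = s := by group
        rwa [h6] at h5
    · intro h1
      left
      exact h1
  -- the map from the centraliser of `r`
  let ψ : Subgroup.centralizer ({r} : Set H) →* Subgroup.centralizer ({d} : Set (L ⧸ N)) :=
    (q.comp (Subgroup.inclusion hCL)).codRestrict _ (fun c => (hcent _).2 c.2)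
  have hψ : ∀ c, (ψ c : L ⧸ N) = q ⟨c, hCL c.2⟩ := fun c => rfl
  have hψs : Function.Surjective ψ := by
    rintro ⟨x, hx⟩
    obtain ⟨x, rfl⟩ := hq x
    exact ⟨⟨x, (hcent x).1 hx⟩, Subtype.ext rfl⟩
  have hψ1 : ∀ c, ψ c = 1 ↔ (c : H) = 1 ∨ (c : H) = t := by
    intro c
    rw [← hq1 ⟨c, hCL c.2⟩, ← hψ]
    exact ⟨fun h1 => congrArg Subtype.val h1, fun h1 => Subtype.ext h1⟩
  have hperfd : commutator (Subgroup.centralizer ({d} : Set (L ⧸ N))) = ⊤ := by
    rw [eq_top_iff]
    intro x _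
    obtain ⟨c, rfl⟩ := hψs x
    have hc : c ∈ commutator (Subgroup.centralizer ({r} : Set H)) := by rw [h.perf]; trivial
    have h1 : Subgroup.map ψ (commutator (Subgroup.centralizer ({r} : Set H))) ≤
        commutator (Subgroup.centralizer ({d} : Set (L ⧸ N))) := by
      rw [commutator_def, commutator_def, Subgroup.map_commutator]
      exact Subgroup.commutator_mono le_top le_top
    exact h1 ⟨c, hc, rfl⟩
  -- the projection of the centraliser of `d` to `PSU`
  have hker : π.ker ≤ π.ker := le_rfl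
  have hπψ : ∀ c, ψ c = 1 → π c = 1 := by
    intro c hc
    rw [h.ker]
    rcases (hψ1 c).1 hc with h1 | h1
    · exact Or.inl h1
    · exact Or.inr (Or.inl h1)
  have hle : ψ.ker ≤ π.ker := fun c hc => hπψ c hc
  let ρ : Subgroup.centralizer ({d} : Set (L ⧸ N)) →* PSU 6 K 2 :=
    (ψ.liftOfSurjective hψs) ⟨π, hle⟩
  have hρ : ∀ c, ρ (ψ c) = π c := fun c => ψ.liftOfRightInverse_comp_apply _ _ ⟨π, hle⟩ c
  have hρs : Function.Surjective ρ := by
    intro u
    obtain ⟨c, rfl⟩ := h.surj u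
    exact ⟨ψ c, hρ c⟩
  have hρ1 : ∀ x : Subgroup.centralizer ({d} : Set (L ⧸ N)), ρ x = 1 ↔
      (x : L ⧸ N) = 1 ∨ (x : L ⧸ N) = d := by
    intro x
    obtain ⟨c, rfl⟩ := hψs x
    rw [hρ, h.ker, hψ, hq1, hqeq]
    show _ ↔ ((c : H) = 1 ∨ (c : H) = t) ∨ ((c : H) = r ∨ (c : H) = t * r)
    (clear * -; tauto)
  have hdc : ∀ x : Subgroup.centralizer ({d} : Set (L ⧸ N)), (x : L ⧸ N) * d = d * x := fun x =>
    Subgroup.mem_centralizer_singleton_iff.1 x.2
  have hzp : ∀ x : L ⧸ N, x ∈ Subgroup.zpowers d ↔ x = 1 ∨ x = d := by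
    intro x
    have hd2 : d * d = 1 := by rw [← pow_two, ← hdd, pow_orderOf_eq_one]
    constructor
    · intro hx
      obtain ⟨k, rfl⟩ := Subgroup.mem_zpowers_iff.1 hx
      rcases Int.even_or_odd k with ⟨m, rfl⟩ | ⟨m, rfl⟩
      · left
        rw [← two_mul, zpow_mul, zpow_ofNat, pow_two, hd2, one_zpow]
      · right
        rw [zpow_add, zpow_mul, zpow_ofNat, pow_two, hd2, one_zpow, one_mul, zpow_one]
    · rintro (rfl | rfl)
      · exact one_mem _
      · exact Subgroup.mem_zpowers _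
  have hkerρ : ρ.ker = (Subgroup.zpowers d).subgroupOf
      (Subgroup.centralizer ({d} : Set (L ⧸ N))) := by
    ext x
    rw [MonoidHom.mem_ker, hρ1, Subgroup.mem_subgroupOf, hzp]
  have hnorm : ((Subgroup.zpowers d).subgroupOf
      (Subgroup.centralizer ({d} : Set (L ⧸ N)))).Normal := by
    rw [← hkerρ]; infer_instance
  have hsimple : IsSimpleGroup (PSU 6 K 2) :=
    Cfsg.Agent.S0283.result (q := 2) h.card 6 (by norm_num) (by norm_num)
  have hqs : IsQuasisimple (Subgroup.centralizer ({d} : Set (L ⧸ N))) := by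
    refine quasisimple_of_surj ρ hρs ?_ hperfd hsimple
    intro x hx
    rw [MonoidHom.mem_ker, hρ1] at hx
    rw [Subgroup.mem_center_iff]
    intro g
    rcases hx with hx | hx
    · have : x = 1 := Subtype.ext hx
      rw [this, mul_one, one_mul]
    · apply Subtype.ext
      show (g : L ⧸ N) * x = x * g
      rw [hx, hdc]
  have e : Nonempty ((Subgroup.centralizer ({d} : Set (L ⧸ N))) ⧸
      (Subgroup.zpowers d).subgroupOf (Subgroup.centralizer ({d} : Set (L ⧸ N))) ≃*
        PSU 6 K 2) := ⟨(QuotientGroup.quotientMulEquivOfEq hkerρ.symm).trans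
          (QuotientGroup.quotientKerEquivOfSurjective ρ hρs)⟩
  have hnwc : ∃ g : L ⧸ N, g * d * g⁻¹ ∈ Subgroup.centralizer ({d} : Set (L ⧸ N)) ∧
      g * d * g⁻¹ ≠ d := by
    obtain ⟨g, hg1, hg2, hg3⟩ := h.nwc
    -- an element of `L` doing the same modulo `t`
    have key : ∃ m : L, (m : H) * r * (m : H)⁻¹ = g * r * g⁻¹ ∨
        (m : H) * r * (m : H)⁻¹ = t * (g * r * g⁻¹) := by
      by_cases hgL : g ∈ L
      · exact ⟨⟨g, hgL⟩, Or.inl rfl⟩
      · have h1 : g * s⁻¹ ∈ L := (Subgroup.mul_mem_iff_of_index_two hL).2 (by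
          rw [L.inv_mem_iff]; (clear * - hsL hgL; tauto))
        refine ⟨⟨g * s⁻¹, h1⟩, Or.inr ?_⟩
        show g * s⁻¹ * r * (g * s⁻¹)⁻¹ = t * (g * r * g⁻¹)
        calc g * s⁻¹ * r * (g * s⁻¹)⁻¹ = g * (s⁻¹ * r * s) * g⁻¹ := by group
          _ = g * (t * r) * g⁻¹ := by rw [h.swap_inv hs]
          _ = (g * t) * r * g⁻¹ := by group
          _ = (t * g) * r * g⁻¹ := by rw [h.tc]
          _ = t * (g * r * g⁻¹) := by group
    obtain ⟨m, hm⟩ := key
    refine ⟨q m, ?_, ?_⟩
    · have h1 : q m * d * (q m)⁻¹ = q (m * ⟨r, hrL⟩ * m⁻¹) := by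
        rw [map_mul, map_mul, map_inv]
      rw [h1, hcent, Hyp.mem_c]
      show (m : H) * r * (m : H)⁻¹ * r = r * ((m : H) * r * (m : H)⁻¹)
      rcases hm with hm | hm <;> rw [hm]
      · exact hg1
      · calc t * (g * r * g⁻¹) * r = t * ((g * r * g⁻¹) * r) := by group
          _ = t * (r * (g * r * g⁻¹)) := by rw [hg1]
          _ = (t * r) * (g * r * g⁻¹) := by group
          _ = (r * t) * (g * r * g⁻¹) := by rw [h.tc]
          _ = r * (t * (g * r * g⁻¹)) := by group
    · have h1 : q m * d * (q m)⁻¹ = q (m * ⟨r, hrL⟩ * m⁻¹) := by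
        rw [map_mul, map_mul, map_inv]
      rw [h1]
      intro h2
      rcases (hqeq _ _).1 h2 with h3 | h3
      · have h3' : (m : H) * r * (m : H)⁻¹ = r := h3
        rcases hm with hm | hm
        · exact hg2 (hm.symm.trans h3')
        · apply hg3
          rw [hm] at h3'
          calc g * r * g⁻¹ = (t * t) * (g * r * g⁻¹) := by rw [h.tt, one_mul]
            _ = t * (t * (g * r * g⁻¹)) := by group
            _ = t * r := by rw [h3']
      · have h3' : (m : H) * r * (m : H)⁻¹ = t * r := h3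
        rcases hm with hm | hm
        · exact hg3 (hm.symm.trans h3')
        · apply hg2
          rw [hm] at h3'
          exact mul_left_cancel h3'
  obtain ⟨f, hf⟩ := hrec (L ⧸ N) d hdd hqs K h.card e hnwc
  refine ⟨f.toMonoidHom.comp q, f.surjective.comp hq, fun x => ?_, fun _ => hf⟩
  show f (q x) = 1 ↔ _
  rw [map_eq_one_iff f f.injective, hq1]

/-- The main theorem, given the subgroup `L` of index two avoiding `y`. -/
theorem main_of_indexT {T : Set Spor.Fi22} (hrec : RecT.{u} T) (hfi : IsSimpleGroup Spor.Fi22)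
    [Finite H] (h : Hyp K t r y π) (L : Subgroup H) (hL : L.index = 2) (hy : y ∉ L) :
    L.Normal ∧ Subgroup.centralizer ({r} : Set H) ≤ L ∧ commutator L = ⊤ ∧ IsQuasisimple L ∧
      (∀ x : H, (∀ c ∈ L, c * x = x * c) ↔ x = 1 ∨ x = t) ∧
      ∃ φ : L →* Spor.Fi22, Function.Surjective φ ∧
        (∀ x : L, φ x = 1 ↔ (x : H) = 1 ∨ (x : H) = t) ∧ ∀ hr : r ∈ L, φ ⟨r, hr⟩ ∈ T := by
  have hLn : L.Normal := Subgroup.normal_of_index_eq_two hL
  have hCL : Subgroup.centralizer ({r} : Set H) ≤ L := le_of_perfect L hL _ h.perf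
  obtain ⟨φ, hφ, hφ1, hφ2⟩ := exists_fi22T hrec h L hL hy
  have hkc : φ.ker ≤ Subgroup.center L := by
    intro x hx
    rw [MonoidHom.mem_ker, hφ1] at hx
    rw [Subgroup.mem_center_iff]
    intro g
    apply Subtype.ext
    show (g : H) * x = x * g
    rcases hx with hx | hx
    · rw [hx, mul_one, one_mul]
    · rw [hx, h.tc]
  -- `L` is perfect
  have hperf : commutator L = ⊤ := by
    have hU : commutator Spor.Fi22 = ⊤ := by
      rcases hfi.eq_bot_or_eq_top_of_normal (commutator Spor.Fi22) inferInstance with h1 | h1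
      · exfalso
        -- the centraliser of `r` is perfect and not contained in the kernel
        have h2 : ∀ c ∈ Subgroup.centralizer ({r} : Set H), c = 1 ∨ c = t := by
          intro c hc
          have h3 : (⟨c, hc⟩ : Subgroup.centralizer ({r} : Set H)) ∈
              commutator (Subgroup.centralizer ({r} : Set H)) := by rw [h.perf]; trivial
          let f := φ.comp (Subgroup.inclusion hCL)
          have h4 : Subgroup.map f (commutator (Subgroup.centralizer ({r} : Set H))) ≤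
              commutator Spor.Fi22 := by
            rw [commutator_def, commutator_def, Subgroup.map_commutator]
            exact Subgroup.commutator_mono le_top le_top
          have h5 : f ⟨c, hc⟩ ∈ commutator Spor.Fi22 := h4 ⟨_, h3, rfl⟩
          rw [h1, Subgroup.mem_bot] at h5
          exact (hφ1 ⟨c, hCL hc⟩).1 h5
        rcases h2 r Hyp.r_mem with h3 | h3
        · exact h.r1 h3
        · exact h.rt h3
      · exact h1
    rw [eq_top_iff]
    intro x _
    have h1 : φ x ∈ commutator Spor.Fi22 := by rw [hU]; trivial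
    have h2 : commutator Spor.Fi22 ≤ Subgroup.map φ (commutator L) := by
      rw [commutator_def, commutator_def, Subgroup.map_commutator,
        Subgroup.map_top_of_surjective φ hφ]
    obtain ⟨x', hx', hxx⟩ := h2 h1
    have h3 : φ (x * x'⁻¹) = 1 := by rw [map_mul, map_inv, hxx, mul_inv_cancel]
    have h4 : x * x'⁻¹ ∈ commutator L := by
      rcases (hφ1 _).1 h3 with h5 | h5
      · have : x * x'⁻¹ = 1 := Subtype.ext h5
        rw [this]
        exact one_mem _
      · have h6 : x * x'⁻¹ = Subgroup.inclusion hCL ⟨t, h.t_mem⟩ := Subtype.ext h5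
        rw [h6]
        have h7 : (⟨t, h.t_mem⟩ : Subgroup.centralizer ({r} : Set H)) ∈
          commutator (Subgroup.centralizer ({r} : Set H)) := by rw [h.perf]; trivial
        have h8 : Subgroup.map (Subgroup.inclusion hCL)
            (commutator (Subgroup.centralizer ({r} : Set H))) ≤ commutator L := by
          rw [commutator_def, commutator_def, Subgroup.map_commutator]
          exact Subgroup.commutator_mono le_top le_top
        exact h8 ⟨_, h7, rfl⟩
    have h5 : x = (x * x'⁻¹) * x' := by group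
    rw [h5]
    exact mul_mem h4 hx'
  refine ⟨hLn, hCL, hperf, quasisimple_of_surj φ hφ hkc hperf hfi, ?_, φ, hφ, hφ1, hφ2⟩
  intro x
  constructor
  · intro hx
    have hxr : x ∈ Subgroup.centralizer ({r} : Set H) :=
      Hyp.mem_c.2 (hx r (hCL Hyp.r_mem)).symm
    have h1 : (⟨x, hCL hxr⟩ : L) ∈ Subgroup.center L := by
      rw [Subgroup.mem_center_iff]
      intro g
      exact Subtype.ext (hx g g.2)
    rw [center_eq_ker φ hφ hkc hperf hfi, MonoidHom.mem_ker, hφ1] at h1
    exact h1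
  · rintro (rfl | rfl) c -
    · rw [mul_one, one_mul]
    · exact h.tc c

/-- The main theorem, given the subgroup `L` of index two avoiding `y`. -/
theorem main_of_index (hrec : Rec.{u}) (hfi : IsSimpleGroup Spor.Fi22) [Finite H]
    (h : Hyp K t r y π) (L : Subgroup H) (hL : L.index = 2) (hy : y ∉ L) :
    L.Normal ∧ Subgroup.centralizer ({r} : Set H) ≤ L ∧ commutator L = ⊤ ∧ IsQuasisimple L ∧
      (∀ x : H, (∀ c ∈ L, c * x = x * c) ↔ x = 1 ∨ x = t) ∧
      ∃ φ : L →* Spor.Fi22, Function.Surjective φ ∧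
        ∀ x : L, φ x = 1 ↔ (x : H) = 1 ∨ (x : H) = t := by
  obtain ⟨h1, h2, h3, h4, h5, φ, h6, h7, -⟩ := main_of_indexT (recT_univ hrec) hfi h L hL hy
  exact ⟨h1, h2, h3, h4, h5, φ, h6, h7⟩

/-- **Step (7)**, strong form: the subgroup of index two from the Thompson transfer lemma. -/
theorem mainT {T : Set Spor.Fi22} (hrec : RecT.{u} T) (hfi : IsSimpleGroup Spor.Fi22) [Finite H]
    (h : Hyp K t r y π)
    (hy : orderOf y = 2) (P : Sylow 2 H) (Q : Subgroup H) (hQP : Q ≤ (P : Subgroup H))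
    (hQi : Q.relIndex (P : Subgroup H) = 2) (hyP : y ∈ (P : Subgroup H))
    (hyQ : ∀ g : H, g * y * g⁻¹ ∉ Q) :
    ∃ L : Subgroup H, L.index = 2 ∧ y ∉ L ∧
      L.Normal ∧ Subgroup.centralizer ({r} : Set H) ≤ L ∧ commutator L = ⊤ ∧ IsQuasisimple L ∧
      (∀ x : H, (∀ c ∈ L, c * x = x * c) ↔ x = 1 ∨ x = t) ∧
      ∃ φ : L →* Spor.Fi22, Function.Surjective φ ∧
        (∀ x : L, φ x = 1 ↔ (x : H) = 1 ∨ (x : H) = t) ∧ ∀ hr : r ∈ L, φ ⟨r, hr⟩ ∈ T := by
  have hyQ1 : y ∉ Q := by
    have := hyQ 1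
    simpa using this
  rcases Cfsg.Agent.S0111.result P Q hQP hQi y hy hyP hyQ1 with ⟨M, hMn, hMi, hyM⟩ | ⟨g, hg⟩
  · exact ⟨M, hMi, hyM, main_of_indexT hrec hfi h M hMi hyM⟩
  · exact absurd hg (hyQ g)

/-- **Step (7)**: the subgroup of index two from the Thompson transfer lemma. -/
theorem main (hrec : Rec.{u}) (hfi : IsSimpleGroup Spor.Fi22) [Finite H] (h : Hyp K t r y π)
    (hy : orderOf y = 2) (P : Sylow 2 H) (Q : Subgroup H) (hQP : Q ≤ (P : Subgroup H))
    (hQi : Q.relIndex (P : Subgroup H) = 2) (hyP : y ∈ (P : Subgroup H))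
    (hyQ : ∀ g : H, g * y * g⁻¹ ∉ Q) :
    ∃ L : Subgroup H, L.index = 2 ∧ y ∉ L ∧
      L.Normal ∧ Subgroup.centralizer ({r} : Set H) ≤ L ∧ commutator L = ⊤ ∧ IsQuasisimple L ∧
      (∀ x : H, (∀ c ∈ L, c * x = x * c) ↔ x = 1 ∨ x = t) ∧
      ∃ φ : L →* Spor.Fi22, Function.Surjective φ ∧
        ∀ x : L, φ x = 1 ↔ (x : H) = 1 ∨ (x : H) = t := by
  have hyQ1 : y ∉ Q := by
    have := hyQ 1
    simpa using this
  rcases Cfsg.Agent.S0111.result P Q hQP hQi y hy hyP hyQ1 with ⟨M, hMn, hMi, hyM⟩ | ⟨g, hg⟩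
  · exact ⟨M, hMi, hyM, main_of_index hrec hfi h M hMi hyM⟩
  · exact absurd hg (hyQ g)

end Cfsg.Agent.R08.Seven
end

-- part: R08/X0Core
section
/-!
Theorem X: the forms with and without coherence.
-/

set_option autoImplicit false

namespace Cfsg.Agent.R08.X0Core

open Cfsg Cfsg.Spor
open Cfsg.Agent.R08.AutT (T)

universe w

/-- The conclusion for an identification of `L` with `L'`. -/
theorem transfer {G : Type w} [Group G] {u : G}
    (L : Subgroup (Subgroup.centralizer ({u} : Set G))) (φ : L →* Spor.Fi22)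
    {L' : Subgroup G} {e : L ≃* L'}
    (he : ∀ l : L, ((e l : L') : G) = ((l : Subgroup.centralizer ({u} : Set G)) : G))
    (h : ∃ H : Subgroup G, Subgroup.centralizer ({u} : Set G) ≤ H ∧ Spor.IsoFi24' H ∧
      ∀ l : L', (φ.comp e.symm.toMonoidHom) l ∈ T → ∃ g ∈ H, g * u * g⁻¹ = l) :
    ∃ H : Subgroup G, Subgroup.centralizer ({u} : Set G) ≤ H ∧ Spor.IsoFi24' H ∧
      ∀ l : L, φ l ∈ T → ∃ g ∈ H, g * u * g⁻¹ = ((l : Subgroup.centralizer ({u} : Set G)) : G) := by
  obtain ⟨H, h1, h2, h3⟩ := h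
  refine ⟨H, h1, h2, fun l hl => ?_⟩
  obtain ⟨g, hg, hgl⟩ := h3 (e l) (by
    show φ (e.symm (e l)) ∈ T
    rwa [e.symm_apply_apply])
  exact ⟨g, hg, by rw [hgl, he]⟩

/-- **Theorem X**, coherence given. -/
theorem x0 {G : Type w} [Group G] [Finite G] (u : G) (hu : orderOf u = 2)
    (L : Subgroup (Subgroup.centralizer ({u} : Set G)))
    (hidx : L.index = 2) (hperf : commutator L = ⊤) (φ : L →* Spor.Fi22)
    (hsurj : Function.Surjective φ)
    (hker : ∀ l : L, φ l = 1 ↔ l = 1 ∨ ((l : Subgroup.centralizer ({u} : Set G)) : G) = u)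
    (hcent : ∀ c : Subgroup.centralizer ({u} : Set G), (∀ l ∈ L, c * l = l * c) →
      c = 1 ∨ (c : G) = u)
    (r : L) (hr : φ r ∈ T) (n : G)
    (hn1 : n * u * n⁻¹ = ((r : Subgroup.centralizer ({u} : Set G)) : G))
    (hn2 : n * ((r : Subgroup.centralizer ({u} : Set G)) : G) * n⁻¹ = u)
    (hcoh : ∀ x : L, IsConj r x → x ≠ r → Commute x r → ∃ y : L, IsConj r y ∧
      ((y : Subgroup.centralizer ({u} : Set G)) : G) =
        n * ((x : Subgroup.centralizer ({u} : Set G)) : G) * n⁻¹) :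
    ∃ H : Subgroup G, Subgroup.centralizer ({u} : Set G) ≤ H ∧ Spor.IsoFi24' H ∧
      ∀ l : L, φ l ∈ T → ∃ g ∈ H, g * u * g⁻¹ = ((l : Subgroup.centralizer ({u} : Set G)) : G) := by
  obtain ⟨L', e, u', D, ε, θ, he, _, h⟩ := XTheta.exists_out LemmaVInst.lemmaV hu L hidx hperf φ
    hsurj hker hcent r hr n hn1 hn2 hcoh
  obtain ⟨τ, w, hτ⟩ := X5Main.main (XBridge.emb h)
  exact transfer L φ he (X0Fin.finish h hτ)

/-- **Theorem X**, without coherence. -/
theorem theoremX {G : Type w} [Group G] [Finite G] {u : G} (hu : orderOf u = 2)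
    (L : Subgroup (Subgroup.centralizer ({u} : Set G)))
    (hidx : L.index = 2) (hperf : commutator L = ⊤) (φ : L →* Spor.Fi22)
    (hsurj : Function.Surjective φ)
    (hker : ∀ l : L, φ l = 1 ↔ l = 1 ∨ ((l : Subgroup.centralizer ({u} : Set G)) : G) = u)
    (hcent : ∀ c : Subgroup.centralizer ({u} : Set G), (∀ l ∈ L, c * l = l * c) →
      c = 1 ∨ (c : G) = u)
    (r : L) (hr : φ r ∈ T)
    (hru : ∃ g : G, g * u * g⁻¹ = ((r : Subgroup.centralizer ({u} : Set G)) : G)) :
    ∃ H : Subgroup G, Subgroup.centralizer ({u} : Set G) ≤ H ∧ Spor.IsoFi24' H ∧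
      ∀ l : L, φ l ∈ T → ∃ g ∈ H, g * u * g⁻¹ = ((l : Subgroup.centralizer ({u} : Set G)) : G) := by
  obtain ⟨L', e, u', D, ε, θ, he, _, h⟩ := XTheta.exists_out' LemmaVInst.lemmaV hu L hidx hperf φ
    hsurj hker hcent r hr hru
  obtain ⟨τ, w, hτ⟩ := X5Main.main (XBridge.emb h)
  exact transfer L φ he (X0Fin.finish h hτ)

end Cfsg.Agent.R08.X0Core
end
end
end
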